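import Cfsg.Agent.Thom.NPC

/-! Norm identities for Frobenius-type actions; abelian `p'`-by-`p` groups have no offenders. -/

namespace Cfsg.Agent.Thom

open Subgroup Finset

theorem surj_of_fpf {K : Type*} [Group K] (ψ : K →* K) (Q : Subgroup K) [Finite Q]
    (hQ : ∀ x ∈ Q, ψ x ∈ Q) (hf : ∀ x ∈ Q, ψ x = x → x = 1) {y : K} (hy : y ∈ Q) :
    ∃ x ∈ Q, x⁻¹ * ψ x = y := by
  let f : Q → Q := fun x => ⟨(x : K)⁻¹ * ψ x, Q.mul_mem (Q.inv_mem x.2) (hQ x x.2)⟩
  have hi : Function.Injective f := by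
    intro a b hab
    have h1 : (a : K)⁻¹ * ψ a = (b : K)⁻¹ * ψ b := congrArg Subtype.val hab
    have h2 := hf (b * (a : K)⁻¹) (Q.mul_mem b.2 (Q.inv_mem a.2)) (by
      rw [map_mul, map_inv]
      calc ψ b * (ψ a)⁻¹ = b * ((b : K)⁻¹ * ψ b) * (ψ a)⁻¹ := by group
        _ = _ := by rw [← h1]; group)
    exact Subtype.ext (mul_inv_eq_one.mp h2).symm
  obtain ⟨x, hx⟩ := Finite.injective_iff_surjective.mp hi ⟨y, hy⟩
  exact ⟨x, x.2, congrArg Subtype.val hx⟩

theorem mem_zpowers_pow {K : Type*} [Group K] {a : K} {p i : ℕ} (hp : p.Prime) (ha : a ^ p = 1)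
    (h0 : 0 < i) (hi : i < p) : ∃ k : ℕ, a = (a ^ i) ^ k := by
  have hc : i.Coprime p := (Nat.coprime_of_lt_prime h0.ne' hi hp).symm
  obtain ⟨k, -, hk⟩ := Nat.exists_mul_mod_eq_one_of_coprime hc hp.one_lt
  refine ⟨k, ?_⟩
  rw [← pow_mul, ← Nat.div_add_mod (i * k) p, pow_add, pow_mul, ha, one_pow, hk, one_mul, pow_one]

variable {M : Type*} [CommGroup M] [Finite M]

/-- the norm identity of a Frobenius group -/
theorem norm_id (Q : Subgroup (MulAut M)) (a : MulAut M) {p : ℕ} (hp : 0 < p)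
    (hn : ∀ x ∈ Q, a * x * a⁻¹ ∈ Q)
    (hs : ∀ i, 0 < i → i < p → ∀ y ∈ Q, ∃ x ∈ Q, x⁻¹ * (a ^ i * x * (a ^ i)⁻¹) = y)
    (hN : ∀ m, ∏ i ∈ range p, (a ^ i) m = 1) (hc : (Nat.card Q).Coprime (Nat.card M)) :
    Q = ⊥ := by
  classical
  have := Fintype.ofFinite Q
  have hn' : ∀ i : ℕ, ∀ x ∈ Q, a ^ i * x * (a ^ i)⁻¹ ∈ Q := by
    intro i
    induction i with
    | zero => simp
    | succ i ih =>
      intro x hx
      have := hn _ (ih x hx)
      simpa [pow_succ', mul_assoc] using this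
  let Nm : M → M := fun m => ∏ y : Q, (y : MulAut M) m
  have hNm : ∀ z ∈ Q, ∀ m, z (Nm m) = Nm m := by
    intro z hz m
    simp only [Nm, map_prod]
    exact Fintype.prod_equiv (Equiv.mulLeft (⟨z, hz⟩ : Q)) _ _ (fun y => rfl)
  have key : ∀ m, m ^ Nat.card Q * ∏ i ∈ range (p - 1), Nm ((a ^ (i + 1)) m) = 1 := by
    intro m
    have h1 : ∏ x : Q, ∏ i ∈ range p, ((x : MulAut M)⁻¹ * (a ^ i * x * (a ^ i)⁻¹)) ((a ^ i) m) = 1 := by
      apply Finset.prod_eq_one
      intro x _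
      have := congrArg (((x : MulAut M)⁻¹ : MulAut M) : M → M) (hN ((x : MulAut M) m))
      rw [map_prod, map_one] at this
      rw [← this]
      refine Finset.prod_congr rfl fun i _ => ?_
      simp
    rw [Finset.prod_comm] at h1
    obtain ⟨p, rfl⟩ := Nat.exists_eq_succ_of_ne_zero hp.ne'
    rw [Finset.prod_range_succ'] at h1
    rw [← h1, mul_comm]
    congr 1
    · refine Finset.prod_congr rfl fun i hi => ?_
      let f : Q → Q := fun x => ⟨(x : MulAut M)⁻¹ * (a ^ (i + 1) * x * (a ^ (i + 1))⁻¹),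
        Q.mul_mem (Q.inv_mem x.2) (hn' _ x x.2)⟩
      have hf : Function.Bijective f := by
        rw [← Finite.surjective_iff_bijective]
        intro y
        obtain ⟨x, hx, h⟩ := hs (i + 1) (by omega) (by simpa using hi) y y.2
        exact ⟨⟨x, hx⟩, Subtype.ext h⟩
      exact (Fintype.prod_bijective f hf _ _ (fun x => rfl)).symm
    · simp
  rw [eq_bot_iff]
  intro z hz
  rw [Subgroup.mem_bot]
  ext m
  obtain ⟨m, rfl⟩ := (powCoprime hc.symm).surjective m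
  rw [powCoprime_apply, eq_inv_of_mul_eq_one_left (key m), map_inv, map_prod]
  simp only [hNm z hz, MulAut.one_apply]

theorem norm_id' (Q : Subgroup (MulAut M)) (a : MulAut M) {p : ℕ} (hp : p.Prime) (ha : a ^ p = 1)
    (hn : ∀ x ∈ Q, a * x * a⁻¹ ∈ Q) (hf : ∀ x ∈ Q, Commute a x → x = 1)
    (hN : ∀ m, ∏ i ∈ range p, (a ^ i) m = 1) (hc : (Nat.card Q).Coprime (Nat.card M)) :
    Q = ⊥ := by
  refine norm_id Q a hp.pos hn ?_ hN hc
  intro i h0 hi y hy
  refine surj_of_fpf (MulAut.conj (a ^ i)).toMonoidHom Q ?_ ?_ hy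
  · clear h0 hi
    induction i with
    | zero => simp
    | succ i ih =>
      intro x hx
      have := hn _ (ih x hx)
      simpa [pow_succ', mul_assoc] using this
  · intro x hx h
    obtain ⟨k, hk⟩ := mem_zpowers_pow hp ha h0 hi
    apply hf x hx
    rw [hk]
    apply Commute.pow_left
    exact mul_inv_eq_iff_eq_mul.mp h

omit [Finite M] in
/-- the partition identity for a group of type `(p, p)` -/
theorem norm_id2 (a b : MulAut M) {p : ℕ} (hp : p.Prime) (hab : Commute a b) (ha : a ^ p = 1)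
    (hb : b ^ p = 1) (Y F : Subgroup M) (hYa : ∀ y ∈ Y, a y ∈ Y) (hYb : ∀ y ∈ Y, b y ∈ Y)
    (hFb : ∀ y ∈ F, b y ∈ F) (h1 : ∀ y ∈ Y, a y = y → y ∈ F)
    (h2 : ∀ i : ℕ, ∀ y ∈ Y, (b * a ^ i) y = y → y ∈ F) {m : M} (hm : m ∈ Y) : m ^ p ∈ F := by
  have hpow : ∀ (c : MulAut M) (Y : Subgroup M), (∀ y ∈ Y, c y ∈ Y) → ∀ i : ℕ, ∀ y ∈ Y,
      (c ^ i) y ∈ Y := by
    intro c Y hc i
    induction i with
    | zero => simp
    | succ i ih => intro y hy; rw [pow_succ']; exact hc _ (ih y hy)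
  have hfix : ∀ c : MulAut M, c ^ p = 1 → ∀ y, c (∏ j ∈ range p, (c ^ j) y) =
      ∏ j ∈ range p, (c ^ j) y := by
    intro c hc y
    have h1 := Finset.prod_range_succ (fun j => (c ^ j) y) p
    rw [Finset.prod_range_succ', hc, pow_zero] at h1
    rw [map_prod]
    refine Eq.trans ?_ (mul_right_cancel h1)
    refine Finset.prod_congr rfl fun j _ => ?_
    rw [pow_succ']; rfl
  have h3 : ∏ i ∈ range p, ∏ j ∈ range p, ((b * a ^ i) ^ j) m ∈ F := by
    refine Subgroup.prod_mem _ fun i _ => h2 i _ (Subgroup.prod_mem _ fun j _ => ?_) (hfix _ ?_ m)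
    · exact hpow _ Y (fun y hy => hYb ((a ^ i) y) (hpow a Y hYa i y hy)) j m hm
    · rw [(hab.symm.pow_right i).mul_pow, hb, ← pow_mul, mul_comm i, pow_mul, ha, one_pow, one_mul]
  rw [Finset.prod_comm] at h3
  obtain ⟨q, hq⟩ := Nat.exists_eq_succ_of_ne_zero hp.ne_zero
  have h4 : ∏ j ∈ range q, ∏ i ∈ range p, ((b * a ^ i) ^ (j + 1)) m ∈ F := by
    refine Subgroup.prod_mem _ fun j hj => ?_
    have : ∏ i ∈ range p, ((b * a ^ i) ^ (j + 1)) m =
        (b ^ (j + 1)) (∏ i ∈ range p, ((a ^ (j + 1)) ^ i) m) := by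
      rw [map_prod]
      refine Finset.prod_congr rfl fun i _ => ?_
      rw [(hab.symm.pow_right i).mul_pow, ← pow_mul, ← pow_mul, mul_comm i]; rfl
    rw [this]
    refine hpow b F hFb _ _ (h1 _ (Subgroup.prod_mem _ fun i _ => ?_) ?_)
    · rw [← pow_mul]; exact hpow a Y hYa _ m hm
    · have h5 := hfix (a ^ (j + 1)) (by rw [← pow_mul, mul_comm, pow_mul, ha, one_pow]) m
      generalize ∏ i ∈ range p, ((a ^ (j + 1)) ^ i) m = w at h5
      obtain ⟨k, hk⟩ := mem_zpowers_pow hp ha (i := j + 1) (by omega) (by simp at hj; omega)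
      rw [hk]
      clear hk
      induction k with
      | zero => simp
      | succ k ih => rw [pow_succ, MulAut.mul_apply, h5, ih]
  conv at h3 => enter [2, 1]; rw [hq]
  rw [Finset.prod_range_succ'] at h3
  have := F.mul_mem (F.inv_mem h4) h3
  simpa using this

/-- fixed points of a `p`-group on an invariant `p`-subgroup -/
theorem exists_fixed {V : Type*} [Group V] [Finite V] {p : ℕ} [hp : Fact p.Prime]
    (E : Subgroup (MulAut V)) (hE : IsPGroup p E) (W : Subgroup V) (hW : IsPGroup p W)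
    (hEW : ∀ e ∈ E, ∀ w ∈ W, e w ∈ W) (h0 : W ≠ ⊥) : ∃ w ∈ W, w ≠ 1 ∧ ∀ e ∈ E, e w = w := by
  let S : SubMulAction E V := ⟨W, fun e _ hw => hEW e e.2 _ hw⟩
  have h1 : p ∣ Nat.card S := by
    rcases hW.card_eq_or_dvd with h | h
    · exact absurd (card_eq_one.mp h) h0
    · exact h
  obtain ⟨b, hb, hb'⟩ := hE.exists_fixed_point_of_prime_dvd_card_of_fixed_point S h1
    (a := ⟨1, W.one_mem⟩) (fun e => Subtype.ext (map_one (e : MulAut V)))
  exact ⟨b, b.2, fun h => hb' (Subtype.ext h.symm),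
    fun e he => congrArg Subtype.val (hb ⟨e, he⟩)⟩

end Cfsg.Agent.Thom
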