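import Cfsg.Agent.Thom.Norm

/-! No offenders: an elementary abelian `p`-group (`p` odd) acting faithfully on an abelian
`p'`-group `Z`, with `Z` faithful on an `𝔽_p`-module `V`, is not an offender on `V`. -/

namespace Cfsg.Agent.Thom

open Subgroup Finset

/-- fixed points -/
def fx {E V : Type*} [Group E] [Group V] (σ : E →* MulAut V) (B : Subgroup E) : Subgroup V where
  carrier := {v | ∀ b ∈ B, σ b v = v}
  one_mem' := fun _ _ => map_one _
  mul_mem' := fun {x y} hx hy b hb => by rw [map_mul, hx b hb, hy b hb]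
  inv_mem' := fun {x} hx b hb => by rw [map_inv, hx b hb]

theorem mem_fx {E V : Type*} [Group E] [Group V] {σ : E →* MulAut V} {B : Subgroup E} {v : V} :
    v ∈ fx σ B ↔ ∀ b ∈ B, σ b v = v := Iff.rfl

/-- the commutator map `v ↦ α v / v` -/
def dl {V : Type*} [CommGroup V] (α : MulAut V) : V →* V := α.toMonoidHom / MonoidHom.id V

theorem dl_apply {V : Type*} [CommGroup V] (α : MulAut V) (v : V) : dl α v = α v / v := rfl

theorem pow_apply_of_fixed {V : Type*} [CommGroup V] (α : MulAut V) (v : V)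
    (h : α (dl α v) = dl α v) (i : ℕ) : (α ^ i) v = v * dl α v ^ i := by
  induction i with
  | zero => simp
  | succ i ih =>
    rw [pow_succ', MulAut.mul_apply, ih, map_mul, map_pow, h, pow_succ', ← mul_assoc, dl_apply]
    simp

variable {E Z V : Type*} [CommGroup E] [CommGroup Z] [CommGroup V] [Finite E] [Finite Z] [Finite V]
  {p : ℕ} [hp : Fact p.Prime]

omit [Finite Z] in
theorem exists_hyper (hE : ∀ e : E, e ^ p = 1) (hZ : (Nat.card Z).Coprime p) (ψ : E →* MulAut Z)
    (hψ : Function.Injective ψ) (B : Subgroup E) (hB : B ≠ ⊥) :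
    ∃ A < B, ∃ a ∈ B, ∃ z ∈ fx ψ A, ψ a z ≠ z ∧ Nat.card B ≤ p * Nat.card A := by
  let S : Set (Subgroup E) := {A | A ≤ B ∧ ∃ z ∈ fx ψ A, z ∉ fx ψ B}
  have h0 : ⊥ ∈ S := by
    refine ⟨bot_le, ?_⟩
    obtain ⟨⟨b, hb⟩, hb1⟩ := ne_bot_iff_exists_ne_one.mp hB
    by_contra hc
    push Not at hc
    apply hb1
    apply Subtype.ext
    apply hψ
    ext z
    simpa using hc z (fun c hc => by rw [Subgroup.mem_bot.mp hc]; simp) b hb
  obtain ⟨A, ⟨hAB, z, hz, hz'⟩, hmax⟩ := (Set.toFinite S).exists_maximal ⟨_, h0⟩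
  rw [mem_fx] at hz'
  push Not at hz'
  obtain ⟨a, ha, haz⟩ := hz'
  have haA : a ∉ A := fun h => haz (hz a h)
  have key : ∀ s ∈ B, s ∉ A → ∀ y ∈ fx ψ A, ψ s y = y → y ∈ fx ψ B := by
    intro s hs hsA y hy hsy
    by_contra hc
    have h1 : A ⊔ zpowers s ∈ S := by
      refine ⟨sup_le hAB (zpowers_le.mpr hs), y, ?_, hc⟩
      have : A ⊔ zpowers s ≤ (MulAction.stabilizer (MulAut Z) y).comap ψ :=
        sup_le (fun b hb => hy b hb) (zpowers_le.mpr hsy)
      exact fun b hb => this hb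
    exact hsA (hmax h1 le_sup_left (mem_sup_right (mem_zpowers s)))
  have hinv : ∀ (C : Subgroup E) (c : E), ∀ y ∈ fx ψ C, ψ c y ∈ fx ψ C := by
    intro C c y hy b hb
    rw [← MulAut.mul_apply, ← map_mul, mul_comm, map_mul, MulAut.mul_apply, hy b hb]
  have hle : B ≤ A ⊔ zpowers a := by
    intro b hb
    by_contra hc
    have h1 := norm_id2 (ψ a) (ψ b) hp.out ((Commute.all a b).map ψ)
      (by rw [← map_pow, hE, map_one]) (by rw [← map_pow, hE, map_one]) (fx ψ A) (fx ψ B)
      (hinv A a) (hinv A b) (hinv B b) (key a ha haA) (fun i y hy h => by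
        refine key (b * a ^ i) (B.mul_mem hb (B.pow_mem ha i)) (fun h' => hc ?_) y hy
          (by rwa [map_mul, map_pow])
        have := (A ⊔ zpowers a).mul_mem (mem_sup_left h')
          ((A ⊔ zpowers a).inv_mem (mem_sup_right (npow_mem_zpowers a i)))
        simpa using this) hz
    have h2 := h1 a ha
    rw [map_pow] at h2
    exact haz ((powCoprime hZ).injective h2)
  refine ⟨A, lt_of_le_of_ne hAB (fun h => haA (h ▸ ha)), a, ha, z, hz, haz, ?_⟩
  have h1 : Nat.card (zpowers a) ≤ p := by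
    rw [Nat.card_zpowers]
    exact Nat.le_of_dvd hp.out.pos (orderOf_dvd_of_pow_eq_one (hE a))
  have h2 : Nat.card (A ⊔ zpowers a : Subgroup E) ≤ Nat.card (A × zpowers a) := by
    refine Nat.card_le_card_of_surjective (fun x => ⟨x.1 * x.2, mul_mem_sup x.1.2 x.2.2⟩) ?_
    rintro ⟨x, hx⟩
    obtain ⟨y, hy, w, hw, rfl⟩ := Subgroup.mem_sup.mp hx
    exact ⟨(⟨y, hy⟩, ⟨w, hw⟩), rfl⟩
  rw [Nat.card_prod] at h2
  calc Nat.card B ≤ _ := card_le_of_le hle
    _ ≤ _ := h2
    _ ≤ _ := by rw [mul_comm p]; exact Nat.mul_le_mul_left _ h1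

omit [Finite E] in
theorem not_quadratic (hp2 : p ≠ 2) (hV : ∀ v : V, v ^ p = 1) (hZ : (Nat.card Z).Coprime p)
    (ρ : Z →* MulAut V) (hρ : Function.Injective ρ) (α : MulAut Z) (β : MulAut V)
    (hα : α ^ p = 1) (hβ : β ^ p = 1) (hc : ∀ z, β * ρ z = ρ (α z) * β)
    (hq : ∀ v, β (dl β v) = dl β v) (z : Z) : α z = z := by
  have hVp : IsPGroup p V := fun v => ⟨1, by rw [pow_one, hV]⟩
  have h1 := norm_id' ((dl α).range.map ρ) β hp.out hβ ?_ ?_ ?_ ?_
  · have : ρ (dl α z) ∈ (dl α).range.map ρ := ⟨_, ⟨z, rfl⟩, rfl⟩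
    rw [h1, Subgroup.mem_bot, ← map_one ρ] at this
    exact div_eq_one.mp (hρ this)
  · rintro _ ⟨_, ⟨y, rfl⟩, rfl⟩
    rw [hc, mul_inv_cancel_right]
    exact ⟨_, ⟨α y, by simp [dl_apply]⟩, rfl⟩
  · rintro _ ⟨_, ⟨y, rfl⟩, rfl⟩ h
    have h2 : α (dl α y) = dl α y := by
      apply hρ
      have := hc (dl α y)
      rw [h.eq] at this
      exact (mul_right_cancel this).symm
    have h3 := pow_apply_of_fixed α y h2 p
    rw [hα, MulAut.one_apply, left_eq_mul] at h3
    have : dl α y = 1 := (powCoprime hZ).injective (by simpa using h3)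
    rw [this, map_one]
  · intro v
    simp only [pow_apply_of_fixed β v (hq v), Finset.prod_mul_distrib, Finset.prod_const,
      Finset.card_range, hV, one_mul]
    obtain ⟨k, hk⟩ := hp.out.odd_of_ne_two hp2
    have : ∑ i ∈ range p, i = p * k := by
      have := Finset.sum_range_id_mul_two p
      have h2 : p - 1 = k * 2 := by omega
      rw [h2, ← mul_assoc] at this
      omega
    rw [Finset.prod_pow_eq_pow_sum, this, pow_mul, hV, one_pow]
  · obtain ⟨n, hn⟩ := hVp.exists_card_eq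
    rw [hn]
    refine Nat.Coprime.pow_right _ (Nat.Coprime.coprime_dvd_left ?_ hZ)
    exact (card_map_dvd _ _).trans (card_subgroup_dvd_card _)

theorem no_offender (hp2 : p ≠ 2) (hV : ∀ v : V, v ^ p = 1) (hE : ∀ e : E, e ^ p = 1)
    (hZ : (Nat.card Z).Coprime p) (ψ : E →* MulAut Z) (hψ : Function.Injective ψ)
    (ρ : Z →* MulAut V) (hρ : Function.Injective ρ) (σ : E →* MulAut V)
    (hc : ∀ e z, σ e * ρ z = ρ (ψ e z) * σ e) (B : Subgroup E) (hB : B ≠ ⊥) :
    Nat.card B * Nat.card (fx σ B) < Nat.card V := by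
  classical
  have hVp : IsPGroup p V := fun v => ⟨1, by rw [pow_one, hV]⟩
  have hEp : IsPGroup p E := fun v => ⟨1, by rw [pow_one, hE]⟩
  induction hn : Nat.card B using Nat.strong_induction_on generalizing B with
  | _ n ih =>
  subst hn
  obtain ⟨A, hAB, a, ha, z, hz, haz, hcard⟩ := exists_hyper hE hZ ψ hψ B hB
  by_contra hlt
  rw [not_lt] at hlt
  by_cases hA : A = ⊥
  · rw [hA, card_bot, mul_one] at hcard
    apply haz
    refine not_quadratic hp2 hV hZ ρ hρ (ψ a) (σ a) (by rw [← map_pow, hE, map_one])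
      (by rw [← map_pow, hE, map_one]) (hc a) ?_ z
    have h1 : fx σ B ≤ (dl (σ a)).ker := fun v hv => by
      rw [MonoidHom.mem_ker, dl_apply, hv a ha, div_self']
    have h2 := (dl (σ a)).ker.card_mul_index
    rw [index_ker] at h2
    have h3 : Nat.card (dl (σ a)).range ≤ p := by
      have h4 := card_le_of_le h1
      have h5 : 0 < Nat.card (dl (σ a)).ker := Nat.card_pos
      have : Nat.card (dl (σ a)).ker * Nat.card (dl (σ a)).range ≤ Nat.card (dl (σ a)).ker * p := by
        rw [h2, mul_comm]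
        exact hlt.trans (Nat.mul_le_mul hcard h4)
      exact Nat.le_of_mul_le_mul_left this h5
    intro v
    by_cases h0 : (dl (σ a)).range = ⊥
    · have : dl (σ a) v ∈ (dl (σ a)).range := ⟨v, rfl⟩
      rw [h0, Subgroup.mem_bot] at this
      rw [this, map_one]
    obtain ⟨w, hw, hw1, hw2⟩ := exists_fixed (zpowers (σ a))
      (PE.zpowers ⟨1, by rw [pow_one, ← map_pow, hE, map_one]⟩) (dl (σ a)).range
      (hVp.to_subgroup _) (by
        rintro _ ⟨k, rfl⟩ _ ⟨u, rfl⟩
        refine ⟨(σ a ^ k) u, ?_⟩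
        simp only [dl_apply, map_div]
        rw [← MulAut.mul_apply, ← MulAut.mul_apply, (Commute.self_zpow (σ a) k).eq]) h0
    have h4 : zpowers w = (dl (σ a)).range := by
      refine eq_of_le_of_card_ge (zpowers_le.mpr hw) ?_
      rw [Nat.card_zpowers, orderOf_eq_prime (hV w) hw1]
      exact h3
    have : dl (σ a) v ∈ zpowers w := h4 ▸ ⟨v, rfl⟩
    obtain ⟨k, hk⟩ := this
    rw [← hk, map_zpow, hw2 _ (mem_zpowers _)]
  have hlt' : Nat.card A < Nat.card B :=
    lt_of_le_of_ne (card_le_of_le hAB.le) fun he => hAB.ne (eq_of_le_of_card_ge hAB.le he.ge)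
  have h1 := ih _ hlt' A hA rfl
  have h2 : fx σ B = fx σ A := by
    have hle : fx σ B ≤ fx σ A := fun v hv b hb => hv b (hAB.le hb)
    refine eq_of_le_of_card_ge hle ?_
    obtain ⟨i, hi⟩ := (hVp.to_subgroup (fx σ A)).exists_card_eq
    obtain ⟨j, hj⟩ := (hVp.to_subgroup (fx σ B)).exists_card_eq
    have h3 : Nat.card A * Nat.card (fx σ A) < Nat.card A * (p * Nat.card (fx σ B)) := by
      calc _ < _ := h1
        _ ≤ _ := hlt
        _ ≤ p * Nat.card A * Nat.card (fx σ B) := Nat.mul_le_mul_right _ hcard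
        _ = _ := by ring
    have h4 := Nat.lt_of_mul_lt_mul_left h3
    rw [hi, hj, ← pow_succ', Nat.pow_lt_pow_iff_right hp.out.one_lt] at h4
    rw [hi, hj]
    exact Nat.pow_le_pow_right hp.out.pos (by omega)
  have hc' : ∀ e z v, σ e (ρ z v) = ρ (ψ e z) (σ e v) := fun e z v =>
    congrArg (fun f : MulAut V => f v) (hc e z)
  let R : Subgroup Z :=
    { carrier := {y | ∀ w ∈ fx σ B, ρ y w = w}
      one_mem' := fun w _ => by simp
      mul_mem' := fun {x y} hx hy w hw => by rw [map_mul, MulAut.mul_apply, hy w hw, hx w hw]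
      inv_mem' := fun {x} hx w hw => by
        rw [map_inv]; exact (MulEquiv.symm_apply_eq _).mpr (hx w hw).symm }
  have hR : ∀ b ∈ B, ∀ y ∈ R, ψ b y ∈ R := by
    intro b hb y hy w hw
    rw [← hw b hb, ← hc', hy w hw]
  have hr : z⁻¹ * ψ a z ∈ R := by
    intro w hw
    have h3 : ρ z w ∈ fx σ B := by
      rw [h2] at hw ⊢
      intro b hb
      rw [hc', hz b hb, hw b hb]
    rw [map_mul, MulAut.mul_apply, ← hw a ha, ← hc', h3 a ha, hw a ha]
    simp
  have := Fintype.ofFinite R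
  let Nm : V →* V := ∏ y : R, (ρ y).toMonoidHom
  have hNm : ∀ v, Nm v = ∏ y : R, ρ y v := fun v => by
    simp only [Nm, MonoidHom.finsetProd_apply]; rfl
  obtain ⟨w, hw, hw1, hw2⟩ := exists_fixed (B.map σ) ((hEp.to_subgroup B).map σ) Nm.ker
    (hVp.to_subgroup _) (by
      rintro _ ⟨b, hb, rfl⟩ v hv
      rw [MonoidHom.mem_ker, hNm] at hv ⊢
      have h3 := congrArg (σ b) hv
      rw [map_prod, map_one] at h3
      rw [← h3]
      let f : R → R := fun y => ⟨ψ b y, hR b hb y y.2⟩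
      have hf : Function.Bijective f := Finite.injective_iff_bijective.mp fun x y hxy =>
        Subtype.ext ((ψ b).injective (congrArg Subtype.val hxy))
      exact (Fintype.prod_bijective f hf _ _ (fun y => hc' b y v)).symm) (by
      intro h0
      apply haz
      have h3 : ρ (z⁻¹ * ψ a z) = 1 := by
        ext v
        have : ρ (z⁻¹ * ψ a z) v / v ∈ Nm.ker := by
          rw [MonoidHom.mem_ker, map_div, div_eq_one, hNm, hNm]
          refine Fintype.prod_equiv (Equiv.mulRight (⟨_, hr⟩ : R)) _ _ (fun y => ?_)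
          rw [← MulAut.mul_apply, ← map_mul]; rfl
        rw [h0, Subgroup.mem_bot, div_eq_one] at this
        exact this
      rw [← map_one ρ] at h3
      exact (inv_mul_eq_one.mp (hρ h3)).symm)
  have h3 : w ∈ fx σ B := fun b hb => hw2 _ ⟨b, hb, rfl⟩
  rw [MonoidHom.mem_ker, hNm, Finset.prod_congr rfl (fun y _ => y.2 w h3), Finset.prod_const,
    Finset.card_univ, ← Nat.card_eq_fintype_card] at hw
  exact hw1 (PP.eq_one ⟨_, Nat.Coprime.coprime_dvd_left (card_subgroup_dvd_card R) hZ, hw⟩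
    ⟨1, by rw [pow_one, hV]⟩)

end Cfsg.Agent.Thom
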