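import Cfsg.Agent.Thom.Frob
import Cfsg.Agent.Thom.Off

/-! Characteristic subgroups, `Ω₁ Z(P)` and the Thompson subgroup. -/

namespace Cfsg.Agent.Thom

open Subgroup

variable {G : Type*} [Group G] {G' : Type*} [Group G'] {p : ℕ}

/-- `X` is a characteristic subgroup of `P` -/
def Ch (X P : Subgroup G) : Prop :=
  X ≤ P ∧ ∀ f : P ≃* P, ∀ x : P, (x : G) ∈ X → ((f x : P) : G) ∈ X

theorem Ch.le_normalizer [Finite G] {X P : Subgroup G} (h : Ch X P) :
    normalizer (P : Set G) ≤ normalizer (X : Set G) := by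
  intro g hg
  apply mem_normalizer_fintype
  intro x hx
  exact h.2 (normalizerMonoidHom P ⟨g, hg⟩) ⟨x, h.1 hx⟩ hx

theorem Ch.transfer {X P : Subgroup G} {X' P' : Subgroup G'} (h : Ch X P) (e : P ≃* P')
    (hle : X' ≤ P') (he : ∀ x : P, (x : G) ∈ X ↔ ((e x : P') : G') ∈ X') : Ch X' P' := by
  refine ⟨hle, fun f x hx => ?_⟩
  obtain ⟨x, rfl⟩ := e.surjective x
  have := (he _).mp (h.2 ((e.trans f).trans e.symm) x ((he x).mpr hx))
  simpa using this

/-- the isomorphism onto the image -/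
noncomputable def eqvMap (f : G →* G') (P : Subgroup G) (hf : ∀ x ∈ P, f x = 1 → x = 1) :
    P ≃* P.map f :=
  MulEquiv.ofBijective (f.subgroupMap P) ⟨(injective_iff_map_eq_one _).mpr fun x hx =>
    Subtype.ext (hf x x.2 (congrArg Subtype.val hx)), f.subgroupMap_surjective P⟩

theorem eqvMap_coe (f : G →* G') (P : Subgroup G) (hf : ∀ x ∈ P, f x = 1 → x = 1) (x : P) :
    ((eqvMap f P hf x : P.map f) : G') = f x := rfl

theorem Ch.map {X P : Subgroup G} (h : Ch X P) (f : G →* G') (hf : Function.Injective f) :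
    Ch (X.map f) (P.map f) :=
  h.transfer (eqvMap f P fun _ _ hx => hf (by rw [hx, map_one])) (map_mono h.1) fun x => by
    rw [eqvMap_coe, mem_map_iff_mem hf]

theorem Ch.comap {P : Subgroup G} {X' : Subgroup G'} (f : G →* G') (hf : ∀ x ∈ P, f x = 1 → x = 1)
    (h : Ch X' (P.map f)) : Ch (X'.comap f ⊓ P) P :=
  h.transfer (eqvMap f P hf).symm inf_le_right fun x => by
    obtain ⟨x, rfl⟩ := (eqvMap f P hf).surjective x
    rw [eqvMap_coe, MulEquiv.symm_apply_apply]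
    exact ⟨fun h => ⟨h, x.2⟩, fun h => h.1⟩

/-- `Ω₁ Z(P)` -/
def Om (p : ℕ) (P : Subgroup G) : Subgroup G where
  carrier := {x | x ∈ P ∧ (∀ y ∈ P, Commute x y) ∧ x ^ p = 1}
  one_mem' := ⟨P.one_mem, fun y _ => Commute.one_left y, one_pow p⟩
  mul_mem' := fun {a b} ha hb => ⟨P.mul_mem ha.1 hb.1, fun y hy => (ha.2.1 y hy).mul_left
    (hb.2.1 y hy), by rw [(ha.2.1 b hb.1).mul_pow, ha.2.2, hb.2.2, one_mul]⟩
  inv_mem' := fun {a} ha => ⟨P.inv_mem ha.1, fun y hy => (ha.2.1 y hy).inv_left,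
    by rw [inv_pow, ha.2.2, inv_one]⟩

theorem mem_Om {P : Subgroup G} {x : G} :
    x ∈ Om p P ↔ x ∈ P ∧ (∀ y ∈ P, Commute x y) ∧ x ^ p = 1 := Iff.rfl

theorem Om_ch (P : Subgroup G) : Ch (Om p P) P := by
  refine ⟨fun x hx => hx.1, fun f x hx => ⟨(f x).2, fun y hy => ?_, ?_⟩⟩
  · obtain ⟨y', hy'⟩ := f.surjective ⟨y, hy⟩
    have h1 : Commute x y' := Subtype.ext (hx.2.1 y' y'.2)
    have := (h1.map f).map P.subtype
    rwa [hy'] at this
  · have h1 : x ^ p = 1 := Subtype.ext hx.2.2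
    have : f x ^ p = 1 := by rw [← map_pow, h1, map_one]
    exact congrArg Subtype.val this

theorem Om_ne_bot [Finite G] [hp : Fact p.Prime] {P : Subgroup G} (hP : IsPGroup p P)
    (h0 : P ≠ ⊥) : Om p P ≠ ⊥ := by
  have : Nontrivial P := (nontrivial_iff_ne_bot P).mpr h0
  have h1 := hP.center_nontrivial
  have h2 : p ∣ Nat.card (center P) := by
    rcases (hP.to_subgroup (center P)).card_eq_or_dvd with h | h
    · exact absurd h Finite.one_lt_card.ne'
    · exact h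
  obtain ⟨x, hx⟩ := exists_prime_orderOf_dvd_card' p h2
  rw [ne_bot_iff_exists_ne_one]
  refine ⟨⟨x, x.1.2, fun y hy => ?_, ?_⟩, fun h => ?_⟩
  · exact (congrArg Subtype.val (mem_center_iff.mp x.2 ⟨y, hy⟩)).symm
  · rw [← hx]
    exact congrArg (fun z : center P => ((z : P) : G)) (pow_orderOf_eq_one x)
  · have h' := congrArg Subtype.val h
    have : x = 1 := Subtype.ext (Subtype.ext h')
    rw [this, orderOf_one] at hx
    exact hp.out.ne_one hx.symm

/-- elementary abelian subgroup of `P` -/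
def EA (p : ℕ) (P A : Subgroup G) : Prop :=
  A ≤ P ∧ (∀ a ∈ A, ∀ b ∈ A, Commute a b) ∧ ∀ a ∈ A, a ^ p = 1

/-- elementary abelian subgroup of `P` of maximal order -/
def MEA (p : ℕ) (P A : Subgroup G) : Prop :=
  EA p P A ∧ ∀ B, EA p P B → Nat.card B ≤ Nat.card A

/-- Thompson subgroup -/
def JJ (p : ℕ) (P : Subgroup G) : Subgroup G := sSup {A | MEA p P A}

theorem MEA.map {P A H : Subgroup G} (h : MEA p P A) (hAH : A ≤ H) (f : H →* G)
    (hf : Function.Injective f) (hP : ∀ x : H, (x : G) ∈ A → f x ∈ P) :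
    MEA p P ((A.subgroupOf H).map f) := by
  refine ⟨⟨?_, ?_, ?_⟩, fun B hB => (h.2 B hB).trans (le_of_eq ?_)⟩
  · rintro _ ⟨x, hx, rfl⟩
    exact hP x hx
  · rintro _ ⟨x, hx, rfl⟩ _ ⟨y, hy, rfl⟩
    exact Commute.map (show Commute x y from Subtype.ext (h.1.2.1 x hx y hy)) f
  · rintro _ ⟨x, hx, rfl⟩
    rw [← map_pow, show x ^ p = 1 from Subtype.ext (h.1.2.2 x hx), map_one]
  · rw [card_map_of_injective hf]
    exact (Nat.card_congr (subgroupOfEquivOfLe hAH).toEquiv).symm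

theorem JJ_le (P : Subgroup G) : JJ p P ≤ P := sSup_le fun _ hA => hA.1.1

theorem JJ_ch (P : Subgroup G) : Ch (JJ p P) P := by
  refine ⟨JJ_le P, fun f x hx => ?_⟩
  have : JJ p P ≤ ((JJ p P).comap (P.subtype.comp f.toMonoidHom)).map P.subtype := by
    refine sSup_le fun A hA a ha => ⟨⟨a, hA.1.1 ha⟩, ?_, rfl⟩
    have h1 := hA.map hA.1.1 (P.subtype.comp f.toMonoidHom)
      (P.subtype_injective.comp f.injective) (fun x _ => (f x).2)
    exact le_sSup (s := {A | MEA p P A}) h1 ⟨⟨a, hA.1.1 ha⟩, ha, rfl⟩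
  obtain ⟨y, hy, h⟩ := this hx
  rw [← Subtype.ext h]
  exact hy

theorem exists_MEA [Finite G] (P : Subgroup G) : ∃ A, MEA p P A := by
  obtain ⟨A, h1, h2⟩ := Set.exists_max_image {A | EA p P A} (fun A => Nat.card A)
    (Set.toFinite _) ⟨⊥, bot_le, fun a ha b _ => by rw [mem_bot.mp ha]; exact Commute.one_left b,
      fun a ha => by rw [mem_bot.mp ha, one_pow]⟩
  exact ⟨A, h1, h2⟩

theorem JJ_ne_bot [Finite G] [hp : Fact p.Prime] {P : Subgroup G} (hP : IsPGroup p P)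
    (h0 : P ≠ ⊥) : JJ p P ≠ ⊥ := by
  obtain ⟨A, hA⟩ := exists_MEA (p := p) P
  intro h
  have h1 : A = ⊥ := le_bot_iff.mp (h ▸ le_sSup (s := {A | MEA p P A}) hA)
  have h2 := hA.2 (Om p P) ⟨fun x hx => hx.1, fun a ha b hb => ha.2.1 b hb.1, fun a ha => ha.2.2⟩
  rw [h1, card_bot] at h2
  exact Om_ne_bot hP h0 (card_le_one_iff_eq_bot _ |>.mp h2)

theorem JJ_normal {P U : Subgroup G} [hU : U.Normal] (hUP : U ≤ P)
    (h : ∀ A, MEA p P A → A ≤ U) : (JJ p P).Normal := by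
  constructor
  intro x hx g
  have : JJ p P ≤ (JJ p P).comap (MulAut.conj g).toMonoidHom := by
    refine sSup_le fun A hA a ha => ?_
    have h1 := hA.map le_top ((MulAut.conj g).toMonoidHom.comp (⊤ : Subgroup G).subtype)
      ((MulAut.conj g).injective.comp (subtype_injective _))
      (fun x hx => hUP (hU.conj_mem _ (h A hA hx) g))
    exact le_sSup (s := {A | MEA p P A}) h1 ⟨⟨a, trivial⟩, ha, rfl⟩
  exact this hx

theorem card_inf_mul_relIndex (H K : Subgroup G) :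
    Nat.card (H ⊓ K : Subgroup G) * H.relIndex K = Nat.card K := by
  rw [← (H.subgroupOf K).card_mul_index, ← inf_subgroupOf_right,
    Nat.card_congr (subgroupOfEquivOfLe (inf_le_right : H ⊓ K ≤ K)).toEquiv, inf_subgroupOf_right]
  rfl

theorem card_sup_mul_card_inf (D V : Subgroup G) [V.Normal] :
    Nat.card (D ⊔ V : Subgroup G) * Nat.card (V ⊓ D : Subgroup G) = Nat.card D * Nat.card V := by
  rw [← card_inf_mul_relIndex V (D ⊔ V), ← card_inf_mul_relIndex V D, relIndex_sup_right,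
    inf_eq_left.mpr le_sup_right]
  ring

end Cfsg.Agent.Thom
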