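import Cfsg.Agent.Thom.NPC

/-! Frobenius' normal `p`-complement theorem. -/

namespace Cfsg.Agent.Thom

open Subgroup
open scoped Pointwise commutatorElement

variable {G : Type*} [Group G] [Finite G] {p : ℕ} [hp : Fact p.Prime]

omit [Finite G] hp in
theorem mem_smul_sylow {P : Sylow p G} {g x : G} :
    x ∈ ((g • P : Sylow p G) : Subgroup G) ↔ g⁻¹ * x * g ∈ (P : Subgroup G) := by
  rw [Sylow.coe_subgroup_smul, Subgroup.mem_pointwise_smul_iff_inv_smul_mem]
  simp

omit [Finite G] hp in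
theorem sylow_eq_of_le {P Q : Sylow p G} (h : (P : Subgroup G) ≤ Q) : P = Q :=
  Sylow.ext (P.3 Q.2 h).symm

theorem sylow_card_eq (P Q : Sylow p G) : Nat.card P = Nat.card Q :=
  Nat.card_congr (P.equiv Q).toEquiv

theorem frob_conj (h : ∀ U : Subgroup G, IsPGroup p U → U ≠ ⊥ → NPC p (normalizer (U : Set G)))
    (P Q : Sylow p G) :
    ∃ c : G, (∀ d ∈ (P : Subgroup G) ⊓ Q, Commute c d) ∧ c • P = Q := by
  induction hn : Nat.card G - Nat.card ((P : Subgroup G) ⊓ Q : Subgroup G)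
    using Nat.strong_induction_on generalizing P Q with
  | _ n ih =>
  have key : ∀ P' Q' : Sylow p G, (P : Subgroup G) ⊓ Q < (P' : Subgroup G) ⊓ Q' →
      ∃ c : G, (∀ d ∈ (P : Subgroup G) ⊓ Q, Commute c d) ∧ c • P' = Q' := by
    intro P' Q' hlt
    have h1 : Nat.card ((P : Subgroup G) ⊓ Q : Subgroup G) <
        Nat.card ((P' : Subgroup G) ⊓ Q' : Subgroup G) := by
      refine lt_of_le_of_ne (card_le_of_le hlt.le) (fun he => hlt.ne ?_)
      exact eq_of_le_of_card_ge hlt.le he.ge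
    have h2 := card_le_card_group ((P' : Subgroup G) ⊓ Q')
    obtain ⟨c, hc, hc'⟩ := ih _ (by omega) P' Q' rfl
    exact ⟨c, fun d hd => hc d (hlt.le hd), hc'⟩
  by_cases hPQ : P = Q
  · exact ⟨1, fun d _ => Commute.one_left d, by rw [one_smul, hPQ]⟩
  set D : Subgroup G := (P : Subgroup G) ⊓ Q with hD
  by_cases hD0 : D = ⊥
  · obtain ⟨c, hc⟩ := MulAction.exists_smul_eq G P Q
    exact ⟨c, fun d hd => by rw [hD0, mem_bot] at hd; rw [hd]; exact Commute.one_right c, hc⟩
  have hDP : D < P := lt_of_le_of_ne inf_le_left fun he =>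
    hPQ (sylow_eq_of_le (by rw [← he]; exact inf_le_right))
  have hDQ : D < Q := lt_of_le_of_ne inf_le_right fun he =>
    hPQ (sylow_eq_of_le (by rw [← he]; exact inf_le_left)).symm
  have hDp : IsPGroup p D := P.2.to_le hDP.le
  have hN := h D hDp hD0
  set N := normalizer (D : Set G)
  obtain ⟨x, hxP, hxD, hxN⟩ := exists_mem_normalizer P.2 hDP
  obtain ⟨y, hyQ, hyD, hyN⟩ := exists_mem_normalizer Q.2 hDQ
  obtain ⟨S, hS, hPS⟩ := exists_sylIn (A := (P : Subgroup G) ⊓ N) (N := N)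
    P.2.to_inf_left inf_le_right
  obtain ⟨R, hR⟩ := hS.pg.exists_le_sylow
  obtain ⟨m, hm, hm'⟩ := hS.conj_le (B := (Q : Subgroup G) ⊓ N) Q.2.to_inf_left inf_le_right
  obtain ⟨s, hs, k, hk, hk', rfl⟩ := hS.fac hN hm
  have hkD : ∀ d ∈ D, Commute k d := fun d hd => hN.commute hDp le_normalizer hk hk hk' hd
  have hkS : ∀ b ∈ (Q : Subgroup G) ⊓ N, k * b * k⁻¹ ∈ S := by
    intro b hb
    have := S.mul_mem (S.mul_mem (S.inv_mem hs) (hm' b hb)) hs
    simpa [mul_assoc] using this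
  obtain ⟨c₁, h1, h1'⟩ := key P R (by
    refine lt_of_le_of_ne (le_inf hDP.le fun d hd => hR (hPS ⟨hDP.le hd, le_normalizer hd⟩)) ?_
    intro he
    exact hxD (he ▸ ⟨hxP, hR (hPS ⟨hxP, hxN⟩)⟩))
  obtain ⟨c₂, h2, h2'⟩ := key (k⁻¹ • R) Q (by
    refine lt_of_le_of_ne (le_inf (fun d hd => ?_) hDQ.le) ?_
    · rw [mem_smul_sylow, inv_inv]
      exact hR (hkS d ⟨hDQ.le hd, le_normalizer hd⟩)
    intro he
    refine hyD (he ▸ ⟨?_, hyQ⟩)
    change y ∈ ((k⁻¹ • R : Sylow p G) : Subgroup G)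
    rw [mem_smul_sylow, inv_inv]
    exact hR (hkS y ⟨hyQ, hyN⟩))
  refine ⟨c₂ * k⁻¹ * c₁, fun d hd => ((h2 d hd).mul_left (hkD d hd).inv_left).mul_left (h1 d hd), ?_⟩
  rw [mul_smul, mul_smul, h1', h2']

theorem frob_fusion (h : ∀ U : Subgroup G, IsPGroup p U → U ≠ ⊥ → NPC p (normalizer (U : Set G)))
    (P : Sylow p G) {x g : G} (hx : x ∈ (P : Subgroup G)) (hy : g * x * g⁻¹ ∈ (P : Subgroup G)) :
    ∃ u ∈ (P : Subgroup G), g * x * g⁻¹ = u * x * u⁻¹ := by
  by_cases h0 : (P : Subgroup G) = ⊥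
  · rw [h0, mem_bot] at hx
    exact ⟨1, one_mem _, by simp [hx]⟩
  obtain ⟨c, hc, hc'⟩ := frob_conj h (g • P) P
  have h1 : c * g ∈ normalizer ((P : Subgroup G) : Set G) := by
    rw [← mul_smul] at hc'
    exact Sylow.smul_eq_iff_mem_normalizer.mp hc'
  have hN := h P P.2 h0
  obtain ⟨s, hs, k, hk, hk', he⟩ := (sylow_sylIn P le_normalizer).fac hN h1
  have h2 := hN.commute P.2 le_normalizer hk hk hk' hx
  have h3 := hc (g * x * g⁻¹) ⟨by
    change _ ∈ ((g • P : Sylow p G) : Subgroup G)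
    rw [mem_smul_sylow]; simpa [mul_assoc] using hx, hy⟩
  refine ⟨s, hs, ?_⟩
  calc g * x * g⁻¹ = c * (g * x * g⁻¹) * c⁻¹ := by rw [h3.eq]; group
    _ = (c * g) * x * (c * g)⁻¹ := by group
    _ = s * (k * x) * k⁻¹ * s⁻¹ := by rw [he]; group
    _ = _ := by rw [h2.eq]; group

omit [Finite G] hp in
theorem eq_bot_of_le_commutator {Q P : Subgroup G} [Group.IsNilpotent P] (hQP : Q ≤ P)
    (h : Q ≤ ⁅Q, P⁆) : Q = ⊥ := by
  obtain ⟨n, hn⟩ := Subgroup.nilpotent_iff_lowerCentralSeries.mp ‹Group.IsNilpotent P›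
  have key : ∀ n, Q ≤ (Subgroup.lowerCentralSeries (⊤ : Subgroup P) n).map P.subtype := by
    intro n
    induction n with
    | zero =>
      rw [Subgroup.lowerCentralSeries_zero, ← MonoidHom.range_eq_map, range_subtype]
      exact hQP
    | succ n ih =>
      rw [Subgroup.lowerCentralSeries_succ, map_commutator, ← MonoidHom.range_eq_map, range_subtype]
      exact h.trans (commutator_mono ih le_rfl)
  have := key n
  rwa [hn, Subgroup.map_bot, le_bot_iff] at this

/-- **Frobenius' normal `p`-complement theorem** -/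
theorem frobenius (h : ∀ U : Subgroup G, IsPGroup p U → U ≠ ⊥ → NPC p (normalizer (U : Set G))) :
    NPC p (⊤ : Subgroup G) := by
  let N : Subgroup G := closure {x | PP p x}
  have hNn : N.Normal := by
    constructor
    intro n hn g
    induction hn using closure_induction with
    | mem x hx => exact subset_closure (PP.conj hx g)
    | one => simp
    | mul x y _ _ hx hy => simpa [mul_assoc] using N.mul_mem hx hy
    | inv x _ hx => simpa [mul_assoc] using N.inv_mem hx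
  obtain ⟨T⟩ : Nonempty (Sylow p N) := inferInstance
  obtain ⟨P, hP⟩ := T.exists_comap_subtype_eq
  let Q : Subgroup G := (T : Subgroup N).map N.subtype
  have hQP : Q ≤ P := by
    rintro _ ⟨x, hx, rfl⟩
    rw [← hP] at hx
    exact hx
  have h1 : (T : Subgroup N).transferFocal.ker = ⊤ := by
    have hq : IsPGroup p (T ⧸ (T : Subgroup N).focalSubgroupOf) := T.2.to_quotient _
    generalize (T : Subgroup N).transferFocal = τ
    have h0 : N ≤ τ.ker.map N.subtype := by
      refine (closure_le _).mpr fun x hx => ⟨⟨x, subset_closure hx⟩, ?_, rfl⟩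
      have : PP p (⟨x, subset_closure hx⟩ : N) := PP.of_inj N.subtype N.subtype_injective hx
      exact (this.map τ).eq_one (hq _)
    rw [eq_top_iff]
    rintro x -
    obtain ⟨y, hy, h'⟩ := h0 x.2
    rwa [← Subtype.ext h']
  have h2 := ker_transferFocal_inf_eq_focalSubgroup T
  rw [h1, top_inf_eq] at h2
  have h3 : Q ≤ ⁅Q, (P : Subgroup G)⁆ := by
    rw [map_le_iff_le_comap]
    conv_lhs => rw [h2, focalSubgroup_def]
    rw [closure_le]
    rintro _ ⟨hg, x, hx, u, rfl⟩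
    have hxQ : (x : G) ∈ Q := ⟨x, hx, rfl⟩
    have h4 : (u : G) * (x : G)⁻¹ * (u : G)⁻¹ ∈ (P : Subgroup G) := by
      have := (P : Subgroup G).mul_mem ((P : Subgroup G).inv_mem (hQP hxQ)) (hQP ⟨_, hg, rfl⟩)
      simpa [commutatorElement_def, mul_assoc] using this
    obtain ⟨v, hv, h5⟩ := frob_fusion h P ((P : Subgroup G).inv_mem (hQP hxQ)) h4
    have : ((⁅x, u⁆ : N) : G) = ⁅(x : G), v⁆ := by
      simp only [commutatorElement_def, coe_mul, coe_inv, mul_assoc] at h5 ⊢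
      rw [h5]
    change ((⁅x, u⁆ : N) : G) ∈ ⁅Q, (P : Subgroup G)⁆
    rw [this]
    exact commutator_mem_commutator hxQ hv
  have := P.2.isNilpotent
  have h4 := eq_bot_of_le_commutator hQP h3
  have h5 : (T : Subgroup N) = ⊥ := (map_eq_bot_iff_of_injective _ N.subtype_injective).mp h4
  have h6 : (Nat.card N).Coprime p := by
    rw [Nat.coprime_comm, Nat.Prime.coprime_iff_not_dvd hp.out]
    intro hd
    exact T.ne_bot_of_dvd_card hd h5
  intro x _ y _ hx hy
  exact pp_of_card h6 (N.mul_mem (subset_closure hx) (subset_closure hy))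

end Cfsg.Agent.Thom
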