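import Cfsg.Agent.Thom.Char

/-! Thompson's normal `p`-complement theorem. -/

namespace Cfsg.Agent.Thom

open Subgroup
open scoped Pointwise

universe u

/-- hypothesis of Thompson's theorem -/
def Hyp (p : ℕ) (G : Type*) [Group G] : Prop :=
  ∀ (P : Sylow p G) (X : Subgroup G), Ch X P → X ≠ ⊥ → NPC p (normalizer (X : Set G))

variable {G : Type u} [Group G] [Finite G] {p : ℕ} [hp : Fact p.Prime]

theorem card_lt_of_ne_top {N : Subgroup G} (h : N ≠ ⊤) : Nat.card N < Nat.card G :=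
  lt_of_le_of_ne (card_le_card_group N) fun he => h (eq_top_of_card_eq N he)

theorem card_quot_lt {N : Subgroup G} (h : N ≠ ⊥) : Nat.card (G ⧸ N) < Nat.card G := by
  rw [card_eq_card_quotient_mul_card_subgroup N]
  exact lt_mul_of_one_lt_right Nat.card_pos (one_lt_card_iff_ne_bot N |>.mpr h)

theorem card_lt_of_lt {A B : Subgroup G} (h : A < B) : Nat.card A < Nat.card B :=
  lt_of_le_of_ne (card_le_of_le h.le) fun he => h.ne (eq_of_le_of_card_ge h.le he.ge)

theorem sylow_card_ge (P : Sylow p G) {S : Subgroup G} (hS : IsPGroup p S) :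
    Nat.card S ≤ Nat.card P := (sylow_sylIn P le_top).card_le hS le_top

theorem bad_of_sub {N : Subgroup G} (ih : Hyp p N → NPC p (⊤ : Subgroup N)) (hN : ¬ NPC p N) :
    ∃ T X : Subgroup G, SylIn p T N ∧ Ch X T ∧ X ≠ ⊥ ∧ ¬ NPC p (normalizer (X : Set G)) := by
  by_contra hc
  push Not at hc
  refine hN (npc_top_iff.mp (ih fun T X hX h0 => ?_))
  have := hc _ _ ⟨T, rfl⟩ (hX.map N.subtype N.subtype_injective)
    (fun h => h0 ((map_eq_bot_iff_of_injective _ N.subtype_injective).mp h))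
  refine (this.comap N.subtype N.subtype_injective).mono fun g hg => ?_
  exact le_normalizer_map N.subtype ⟨g, hg, rfl⟩

theorem stepA (ih : ∀ N : Subgroup G, N ≠ ⊤ → Hyp p N → NPC p (⊤ : Subgroup N)) (h : Hyp p G)
    (hG : ¬ NPC p (⊤ : Subgroup G)) :
    ∃ U : Subgroup G, U.Normal ∧ IsPGroup p U ∧ U ≠ ⊥ ∧ ∀ X : Subgroup G, IsPGroup p X → X ≠ ⊥ →
      ¬ NPC p (normalizer (X : Set G)) → ∀ P : Sylow p G, (P : Subgroup G) ≤ normalizer X →
      Nat.card X ≤ Nat.card U := by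
  let s : Set (Subgroup G × Subgroup G) := {x | IsPGroup p x.1 ∧ x.1 ≠ ⊥ ∧
    ¬ NPC p (normalizer (x.1 : Set G)) ∧ IsPGroup p x.2 ∧ x.2 ≤ normalizer x.1}
  have hs : s.Nonempty := by
    by_contra hc
    refine hG (frobenius fun U h1 h2 => ?_)
    by_contra h3
    exact hc ⟨(U, ⊥), h1, h2, h3, IsPGroup.of_bot, bot_le⟩
  obtain ⟨x0, hx0, hm0⟩ := Set.exists_max_image s (fun x => Nat.card x.2) (Set.toFinite _) hs
  obtain ⟨⟨U, S⟩, ⟨⟨h1, h2, h3, h4, h5⟩, h6⟩, hm⟩ := Set.exists_max_image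
    {x ∈ s | Nat.card x.2 = Nat.card x0.2} (fun x => Nat.card x.1) (Set.toFinite _) ⟨x0, hx0, rfl⟩
  simp only at h1 h2 h3 h4 h5 h6 hm hm0
  refine ⟨U, ?_, h1, h2, fun X hX hX0 hXb P hP => hm (X, P) ⟨⟨hX, hX0, hXb, P.2, hP⟩, ?_⟩⟩
  · rw [← normalizer_eq_top_iff]
    by_contra hN
    obtain ⟨T, X, hT, hX, hX0, hXb⟩ := bad_of_sub (ih _ hN) h3
    obtain ⟨P, hP⟩ := hT.pg.exists_le_sylow
    rcases hP.eq_or_lt with he | hlt
    · exact hXb (h P X (he ▸ hX) hX0)
    obtain ⟨x, hx1, hx2, hx3⟩ := exists_mem_normalizer P.2 hlt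
    have h7 := hm0 (X, (P : Subgroup G) ⊓ normalizer T) ⟨hT.pg.to_le hX.1, hX0, hXb,
      P.2.to_inf_left, inf_le_right.trans hX.le_normalizer⟩
    have h8 : T < (P : Subgroup G) ⊓ normalizer T :=
      lt_of_le_of_ne (le_inf hP le_normalizer) fun he => hx2 (he ▸ ⟨hx1, hx3⟩)
    have h9 := card_lt_of_lt h8
    have h10 := hT.card_le h4 h5
    simp only at h7
    omega
  · exact le_antisymm (hm0 (X, P) ⟨hX, hX0, hXb, P.2, hP⟩) (sylow_card_ge P hx0.2.2.2.1)

theorem stepB {U : Subgroup G} [U.Normal] (hU : IsPGroup p U)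
    (hm : ∀ X : Subgroup G, IsPGroup p X → X ≠ ⊥ →
      ¬ NPC p (normalizer (X : Set G)) → ∀ P : Sylow p G, (P : Subgroup G) ≤ normalizer X →
      Nat.card X ≤ Nat.card U) : Hyp p (G ⧸ U) := by
  intro P' X' hX h0
  obtain ⟨P, rfl⟩ := Sylow.mapSurjective_surjective (QuotientGroup.mk'_surjective U) p P'
  have hlt : U < X'.comap (QuotientGroup.mk' U) := by
    refine lt_of_le_of_ne (QuotientGroup.le_comap_mk' U X') fun he => h0 ?_
    rw [← map_comap_eq_self_of_surjective (QuotientGroup.mk'_surjective U) X', ← he,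
      QuotientGroup.map_mk'_self]
  have h1 : NPC p (normalizer (X'.comap (QuotientGroup.mk' U) : Set G)) := by
    by_contra hc
    refine (card_lt_of_lt hlt).not_ge (hm _ ?_ (ne_bot_of_gt hlt) hc P ?_)
    · exact ((Sylow.isPGroup' _).to_le hX.1).comap_of_ker_isPGroup _
        (by rwa [QuotientGroup.ker_mk'])
    · refine le_trans ?_ (le_normalizer_comap _)
      exact fun g hg => hX.le_normalizer (le_normalizer ⟨g, hg, rfl⟩)
  rw [← comap_normalizer_eq_of_surjective _ (QuotientGroup.mk'_surjective U)] at h1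
  have := h1.map (QuotientGroup.mk' U)
  rwa [map_comap_eq_self_of_surjective (QuotientGroup.mk'_surjective U)] at this

theorem stepC (h : Hyp p G) {D : Subgroup G} [D.Normal] (hD : ∀ x ∈ D, PP p x) :
    Hyp p (G ⧸ D) := by
  intro P' X' hX h0
  obtain ⟨P, rfl⟩ := Sylow.mapSurjective_surjective (QuotientGroup.mk'_surjective D) p P'
  set π := QuotientGroup.mk' D
  have hinj : ∀ x ∈ (P : Subgroup G), π x = 1 → x = 1 := fun x hx h1 =>
    (hD x ((QuotientGroup.eq_one_iff x).mp h1)).eq_one (pe_of_mem P.2 hx)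
  have h1 := Ch.comap π hinj hX
  set X := X'.comap π ⊓ P
  have hXm : X.map π = X' := by
    refine le_antisymm (map_le_iff_le_comap.mpr inf_le_left) fun y hy => ?_
    obtain ⟨x, hx, rfl⟩ := hX.1 hy
    exact ⟨x, ⟨hy, hx⟩, rfl⟩
  have h2 := h P X h1 (fun hb => h0 (by rw [← hXm, hb, Subgroup.map_bot]))
  refine (h2.map π).mono fun g' hg => ?_
  obtain ⟨g, rfl⟩ := QuotientGroup.mk'_surjective D g'
  have hXp : IsPGroup p X := P.2.to_inf_right
  have h3 : SylIn p X (X'.comap π) := by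
    refine sylIn_of_index hXp inf_le_left fun hd => ?_
    have h4 := card_inf_mul_relIndex X (X'.comap π)
    have h5 := card_inf_mul_relIndex π.ker (X'.comap π)
    have h6 := card_inf_mul_relIndex π.ker X
    rw [relIndex_ker] at h5 h6
    rw [map_comap_eq_self_of_surjective (QuotientGroup.mk'_surjective D),
      inf_eq_left.mpr (ker_le_comap _ _), QuotientGroup.ker_mk'] at h5
    have h7 : π.ker ⊓ X = ⊥ := eq_bot_iff.mpr fun x hx => hinj x hx.2.2 hx.1
    rw [h7, card_bot, one_mul, hXm] at h6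
    rw [inf_eq_left.mpr inf_le_left, ← h5, h6, mul_comm (Nat.card D)] at h4
    rw [Nat.eq_of_mul_eq_mul_left Nat.card_pos h4] at hd
    exact (Nat.Prime.coprime_iff_not_dvd hp.out).mp (coprime_card_of_pp hD).symm hd
  obtain ⟨n, hn, hn'⟩ := h3.conj_le (B := X.map (MulAut.conj g).toMonoidHom) (hXp.map _) (by
    rintro _ ⟨x, hx, rfl⟩
    have := (mem_normalizer_iff.mp hg (π x)).mp hx.1
    change π (g * x * g⁻¹) ∈ X'
    rwa [map_mul, map_mul, map_inv])
  have h4 : n * g ∈ normalizer (X : Set G) := by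
    apply mem_normalizer_fintype
    intro x hx
    have := hn' _ ⟨x, hx, rfl⟩
    simpa [mul_assoc] using this
  have h5 : π n ∈ X.map π := by rw [hXm]; exact hn
  obtain ⟨m, hm, hm'⟩ := h5
  refine ⟨m⁻¹ * (n * g), Subgroup.mul_mem _ (Subgroup.inv_mem _ (le_normalizer hm)) h4, ?_⟩
  rw [map_mul, map_inv, map_mul, hm']
  exact inv_mul_cancel_left _ _

omit [Finite G] hp in
theorem npc_of_quot {D : Subgroup G} [D.Normal] (hD : ∀ x ∈ D, PP p x)
    (h : NPC p (⊤ : Subgroup (G ⧸ D))) : NPC p (⊤ : Subgroup G) := by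
  intro x _ y _ hx hy
  obtain ⟨n, h1, h2⟩ := h _ trivial _ trivial (hx.map (QuotientGroup.mk' D))
    (hy.map (QuotientGroup.mk' D))
  rw [← map_mul, ← map_pow] at h2
  exact PP.of_pow h1 (hD _ ((QuotientGroup.eq_one_iff _).mp h2))

theorem exists_inv_ab {q : ℕ} [Fact q.Prime] (L : Subgroup G) [L.Normal]
    (hL : (Nat.card L).Coprime p) (hq : q ∣ Nat.card L) {P : Subgroup G} (hP : IsPGroup p P) :
    ∃ Z ≤ L, Z ≠ ⊥ ∧ (∀ a ∈ Z, ∀ b ∈ Z, Commute a b) ∧ P ≤ normalizer Z := by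
  let _inst : MulAction P (Sylow q L) := MulAction.compHom _ ((MulAut.conjNormal (H := L)).comp P.subtype)
  obtain ⟨Q, hQ⟩ := hP.nonempty_fixed_point_of_prime_not_dvd_card (Sylow q L) (by
    obtain ⟨Q⟩ : Nonempty (Sylow q L) := inferInstance
    intro hd
    exact (Nat.Prime.coprime_iff_not_dvd hp.out).mp hL.symm
      (hd.trans (Q.card_dvd_index.trans (index_dvd_card _))))
  refine ⟨Om q ((Q : Subgroup L).map L.subtype), fun x hx => map_subtype_le _ hx.1,
    Om_ne_bot (Q.2.map _) fun h => Q.ne_bot_of_dvd_card hq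
      ((map_eq_bot_iff_of_injective _ L.subtype_injective).mp h),
    fun a ha b hb => ha.2.1 b hb.1, le_trans ?_ (Om_ch _).le_normalizer⟩
  intro g hg
  apply mem_normalizer_fintype
  rintro _ ⟨x, hx, rfl⟩
  have h1 : MulAut.conjNormal (H := L) g • Q = Q := hQ ⟨g, hg⟩
  refine ⟨MulAut.conjNormal g x, ?_, rfl⟩
  rw [← h1]
  exact Subgroup.smul_mem_pointwise_smul _ (MulAut.conjNormal (H := L) g) _ hx

theorem stepG (hp2 : p ≠ 2) {U P : Subgroup G} (hUP : U ≤ P) {G' : Type*} [Group G'] (π : G →* G')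
    (hπ : Function.Surjective π) (hk : π.ker = U) (Z : Subgroup G') [Z.Normal]
    (hZc : ∀ a ∈ Z, ∀ b ∈ Z, Commute a b) (hZp : (Nat.card Z).Coprime p)
    (hfa : ∀ e ∈ P.map π, (∀ y ∈ Z, Commute e y) → e = 1) [(Om p U).Normal]
    (ρ₀ : G' →* MulAut (Om p U)) (hρ₀ : Function.Injective ρ₀)
    (hρ : ∀ (g : G) (v : Om p U), (ρ₀ (π g) v : G) = g * v * g⁻¹)
    (A : Subgroup G) (hA : MEA p P A) (hAU : ¬ A ≤ U) : False := by
  have := Finite.of_surjective π hπ
  let V := Om p U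
  let E := A.map π
  let _inst : CommGroup V := { (inferInstance : Group V) with
    mul_comm := fun a b => Subtype.ext (a.2.2.1 b b.2.1) }
  let _inst : CommGroup Z := { (inferInstance : Group Z) with
    mul_comm := fun a b => Subtype.ext (hZc a a.2 b b.2) }
  let _inst : CommGroup E := { (inferInstance : Group E) with
    mul_comm := by
      rintro ⟨_, a, ha, rfl⟩ ⟨_, b, hb, rfl⟩
      exact Subtype.ext ((hA.1.2.1 a ha b hb).map π) }
  have key := no_offender (E := E) (Z := Z) (V := V) hp2 (fun v => Subtype.ext v.2.2.2)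
    (by
      rintro ⟨_, a, ha, rfl⟩
      apply Subtype.ext
      change π a ^ p = 1
      rw [← map_pow, hA.1.2.2 a ha, map_one])
    hZp
    ((MulAut.conjNormal (H := Z)).comp E.subtype) (by
      rw [injective_iff_map_eq_one]
      intro e he
      refine Subtype.ext (hfa e (map_mono hA.1.1 e.2) fun y hy => ?_)
      have h2 : (e : G') * y * (e : G')⁻¹ = y :=
        congrArg (fun f : MulAut Z => ((f ⟨y, hy⟩ : Z) : G')) he
      exact mul_inv_eq_iff_eq_mul.mp h2)
    (ρ₀.comp Z.subtype) (hρ₀.comp Z.subtype_injective) (ρ₀.comp E.subtype) (by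
      intro e y
      change ρ₀ e * ρ₀ y = ρ₀ ((e : G') * y * (e : G')⁻¹) * ρ₀ e
      rw [← map_mul, ← map_mul, inv_mul_cancel_right]) ⊤ (by
      intro h
      apply hAU
      intro a ha
      have : (⟨π a, a, ha, rfl⟩ : E) ∈ (⊤ : Subgroup E) := trivial
      rw [h, mem_bot] at this
      rw [← hk]
      exact congrArg Subtype.val this)
  rw [card_top] at key
  have h1 := hA.2 ((U ⊓ A) ⊔ V) (by
    refine ⟨sup_le (inf_le_left.trans hUP) fun v hv => hUP hv.1, ?_, ?_⟩
    · intro a ha b hb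
      rw [mem_sup_of_normal_right] at ha hb
      obtain ⟨a, ha, v, hv, rfl⟩ := ha
      obtain ⟨b, hb, w, hw, rfl⟩ := hb
      exact ((hA.1.2.1 a ha.2 b hb.2).mul_right (hw.2.1 a ha.1).symm).mul_left
        ((hv.2.1 b hb.1).mul_right (hv.2.1 w hw.1))
    · intro a ha
      rw [mem_sup_of_normal_right] at ha
      obtain ⟨a, ha, v, hv, rfl⟩ := ha
      rw [(hv.2.1 a ha.1).symm.mul_pow, hA.1.2.2 a ha.2, hv.2.2, one_mul])
  have h2 := card_sup_mul_card_inf (U ⊓ A) V
  have h3 := card_inf_mul_relIndex π.ker A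
  rw [relIndex_ker, hk] at h3
  have h4 : Nat.card (V ⊓ (U ⊓ A) : Subgroup G) ≤ Nat.card (fx (ρ₀.comp E.subtype) ⊤) := by
    refine Nat.card_le_card_of_injective (fun x => ⟨⟨x, x.2.1⟩, ?_⟩) ?_
    · rintro ⟨_, a, ha, rfl⟩ -
      apply Subtype.ext
      refine (hρ a _).trans ?_
      change a * x * a⁻¹ = x
      rw [hA.1.2.1 a ha x x.2.2.2, mul_inv_cancel_right]
    · intro x y hxy
      exact Subtype.ext (congrArg (fun z => ((z : V) : G)) (congrArg Subtype.val hxy))
  have h5 : 0 < Nat.card (U ⊓ A : Subgroup G) := Nat.card_pos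
  have h6 : Nat.card (U ⊓ A : Subgroup G) * Nat.card V ≤
      Nat.card (U ⊓ A : Subgroup G) * (Nat.card E * Nat.card (fx (ρ₀.comp E.subtype) ⊤)) := by
    rw [← h2, ← mul_assoc, h3]
    exact Nat.mul_le_mul h1 h4
  exact (Nat.le_of_mul_le_mul_left h6 h5).not_gt key

/-- the final contradiction -/
theorem stepF (hp2 : p ≠ 2) {U : Subgroup G} [hUn : U.Normal] (hU : IsPGroup p U) (hU0 : U ≠ ⊥)
    (P : Sylow p G) (hq : NPC p (⊤ : Subgroup (G ⧸ U))) (hG : ¬ IsPGroup p G)
    (hmax : ∀ X : Subgroup G, X.Normal → IsPGroup p X → X ≤ U)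
    (hC : ∀ g, (∀ u ∈ U, Commute g u) → g ∈ U)
    (hM : ∀ H : Subgroup G, (P : Subgroup G) ≤ H → H ≠ ⊤ → H = P)
    (hch : ∀ X : Subgroup G, Ch X P → X ≠ ⊥ → ¬ X.Normal) : False := by
  set π := QuotientGroup.mk' U
  have hπ : Function.Surjective π := QuotientGroup.mk'_surjective U
  have hUP : U ≤ P := hU.le_sylow_of_normal P
  have hP0 : (P : Subgroup G) ≠ ⊥ := fun h => hU0 (le_bot_iff.mp (h ▸ hUP))
  have hLn := hq.K_normal
  have hL : (Nat.card hq.K).Coprime p := coprime_card_of_pp fun x hx => hx.2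
  have hL0 : Nat.card hq.K ≠ 1 := by
    intro h
    rw [card_eq_one] at h
    have h1 : IsPGroup p (⊤ : Subgroup (G ⧸ U)) :=
      isPGroup_of_pp fun x _ hx => mem_bot.mp (h ▸ (⟨trivial, hx⟩ : x ∈ hq.K))
    have h2 := h1.comap_of_ker_isPGroup π (by rwa [QuotientGroup.ker_mk'])
    exact hG (h2.of_surjective (Subgroup.subtype _) fun g => ⟨⟨g, trivial⟩, rfl⟩)
  obtain ⟨q, hq1, hq2⟩ := Nat.exists_prime_and_dvd hL0
  have := Fact.mk hq1
  obtain ⟨Z, hZL, hZ0, hZc, hZn⟩ := exists_inv_ab hq.K hL hq2 (P.2.map π)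
  obtain ⟨⟨z, hz⟩, hz1⟩ := ne_bot_iff_exists_ne_one.mp hZ0
  have hM' : ∀ H : Subgroup (G ⧸ U), (P : Subgroup G).map π ≤ H → z ∈ H → H = ⊤ := by
    intro H h1 h2
    by_contra hc
    have h3 := hM (H.comap π) (map_le_iff_le_comap.mp h1) (fun h => hc (by
      rw [← map_comap_eq_self_of_surjective hπ H, h]; exact map_top_of_surjective _ hπ))
    obtain ⟨z', rfl⟩ := hπ z
    have h4 : z' ∈ (P : Subgroup G) := h3 ▸ h2
    exact hz1 (Subtype.ext ((hZL hz).2.eq_one ((pe_of_mem P.2 h4).map π)))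
  have hZN : Z.Normal := normalizer_eq_top_iff.mp (hM' _ hZn (le_normalizer hz))
  have hfa : ∀ e ∈ (P : Subgroup G).map π, (∀ y ∈ Z, Commute e y) → e = 1 := by
    intro e he h1
    let C := (P : Subgroup G).map π ⊓ centralizer (Z : Set (G ⧸ U))
    have hCn : C.Normal := by
      refine normalizer_eq_top_iff.mp (hM' _ (fun g hg => ?_) ?_)
      · apply mem_normalizer_fintype
        intro c hc
        exact ⟨Subgroup.mul_mem _ (Subgroup.mul_mem _ hg hc.1) (Subgroup.inv_mem _ hg),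
          Normal.conj_mem inferInstance _ hc.2 g⟩
      · apply mem_normalizer_fintype
        intro c hc
        rw [hc.2 z hz, mul_inv_cancel_right]
        exact hc
    have h2 := hmax (C.comap π) inferInstance (((P.2.map π).to_inf_left).comap_of_ker_isPGroup π
      (by rwa [QuotientGroup.ker_mk']))
    obtain ⟨e, rfl⟩ := hπ e
    exact (QuotientGroup.eq_one_iff e).mpr (h2 ⟨he, fun y hy => (h1 y hy).symm⟩)
  let V := Om p U
  have hVn : V.Normal := normalizer_eq_top_iff.mp (eq_top_iff.mpr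
    ((normalizer_eq_top_iff.mpr hUn).ge.trans (Om_ch U).le_normalizer))
  have hNP : ∀ X : Subgroup G, Ch X P → X ≠ ⊥ → normalizer (X : Set G) = P := fun X h1 h2 =>
    hM _ (le_normalizer.trans h1.le_normalizer) fun h => hch X h1 h2 (normalizer_eq_top_iff.mp h)
  have hker : (MulAut.conjNormal (H := V)).ker ≤ U := by
    refine hmax _ inferInstance (P.2.to_le fun g hg => ?_)
    rw [← hNP _ (Om_ch (P : Subgroup G)) (Om_ne_bot P.2 hP0)]
    apply mem_normalizer_fintype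
    intro x hx
    have h1 : x ∈ V := ⟨hC x fun u hu => hx.2.1 u (hUP hu), fun u hu => hx.2.1 u (hUP hu), hx.2.2⟩
    have h2 : g * x * g⁻¹ = x :=
      congrArg (fun f : MulAut V => ((f ⟨x, h1⟩ : V) : G)) (MonoidHom.mem_ker.mp hg)
    rw [h2]
    exact hx
  let ρ₀ : G ⧸ U →* MulAut V := QuotientGroup.lift U (MulAut.conjNormal (H := V)) (by
    intro u hu
    ext v
    have := (v.2.2.1 u hu).eq
    simp [← this])
  have hρ₀ : Function.Injective ρ₀ := by
    rw [injective_iff_map_eq_one]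
    intro g hg
    obtain ⟨g, rfl⟩ := hπ g
    exact (QuotientGroup.eq_one_iff g).mpr (hker hg)
  obtain ⟨A, hA, hAU⟩ : ∃ A, MEA p (P : Subgroup G) A ∧ ¬ A ≤ U := by
    by_contra hc
    push Not at hc
    exact hch _ (JJ_ch (P : Subgroup G)) (JJ_ne_bot P.2 hP0) (JJ_normal hUP hc)
  exact stepG hp2 hUP π hπ (QuotientGroup.ker_mk' U) Z hZc
    (Nat.Coprime.coprime_dvd_left (card_dvd_of_le hZL) hL) hfa ρ₀ hρ₀ (fun _ _ => rfl) A hA hAU

/-- **Thompson's normal `p`-complement theorem** -/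
theorem thompson (hp2 : p ≠ 2) (h : Hyp p G) : NPC p (⊤ : Subgroup G) := by
  induction hn : Nat.card G using Nat.strong_induction_on generalizing G with
  | _ n ih =>
  subst hn
  by_contra hG
  have ih1 : ∀ N : Subgroup G, N ≠ ⊤ → Hyp p N → NPC p (⊤ : Subgroup N) :=
    fun N hN h' => ih _ (card_lt_of_ne_top hN) h' rfl
  obtain ⟨U, hUn, hU, hU0, hm⟩ := stepA ih1 h hG
  have hq := ih _ (card_quot_lt hU0) (stepB hU hm) rfl
  have hD : ∀ D : Subgroup G, D.Normal → (∀ x ∈ D, PP p x) → D = ⊥ := by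
    intro D _ h1
    by_contra h2
    exact hG (npc_of_quot h1 (ih _ (card_quot_lt h2) (stepC h h1) rfl))
  obtain ⟨P⟩ : Nonempty (Sylow p G) := inferInstance
  have hmax : ∀ X : Subgroup G, X.Normal → IsPGroup p X → X ≤ U := by
    intro X _ hX
    have h1 : normalizer ((X ⊔ U : Subgroup G) : Set G) = ⊤ := normalizer_eq_top_iff.mpr inferInstance
    have h2 := hm (X ⊔ U) (hX.to_sup_of_normal_right hU) (fun h => hU0 (sup_eq_bot_iff.mp h).2)
      (h1 ▸ hG) P (h1 ▸ le_top)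
    rw [eq_of_le_of_card_ge (le_sup_right : U ≤ X ⊔ U) h2]
    exact le_sup_left
  have hC : ∀ g, (∀ u ∈ U, Commute g u) → g ∈ U := by
    have h1 : NPC p (centralizer (U : Set G)) := npc_of_central (QuotientGroup.mk' U)
      (fun c hc u hu => (hc u (by rwa [QuotientGroup.ker_mk'] at hu)).symm) hq
    have h2 := hD _ h1.K_normal fun x hx => hx.2
    exact fun g hg => hmax _ inferInstance
      (isPGroup_of_pp fun x hx hx' => mem_bot.mp (h2 ▸ (⟨hx, hx'⟩ : x ∈ h1.K)))
      fun u hu => (hg u hu).symm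
  refine stepF hp2 hU hU0 P hq (fun hc => hG (npc_of_isPGroup (hc.to_subgroup _))) hmax hC ?_ ?_
  · intro H hPH hH
    have hUH : U ≤ H := (hU.le_sylow_of_normal P).trans hPH
    have h1 : NPC p H := by
      by_contra hc
      obtain ⟨T, X, hT, hX, hX0, hXb⟩ := bad_of_sub (ih1 H hH) hc
      obtain ⟨Q, hQ⟩ := hT.pg.exists_le_sylow
      have : T = Q := eq_of_le_of_card_ge hQ ((sylow_card_ge P Q.2).trans (hT.card_le P.2 hPH))
      exact hXb (h Q X (this ▸ hX) hX0)
    refine P.3 (isPGroup_of_pp fun k hk hk' => hk'.eq_one (pe_of_mem hU (hC k fun u hu => ?_))) hPH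
    exact h1.commute hU hUH hk (by rw [normalizer_eq_top_iff.mpr hUn]; trivial) hk' hu
  · intro X h1 h2 h3
    have := h P X h1 h2
    rw [normalizer_eq_top_iff.mpr h3] at this
    exact hG this

end Cfsg.Agent.Thom
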