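import Mathlib

/-! Normal `p`-complements, elementwise: `NPC p H` says that the `p'`-elements of `H` are closed
under multiplication. -/

namespace Cfsg.Agent.Thom

open Subgroup

variable {G : Type*} [Group G] {G' : Type*} [Group G'] {p : ℕ}

/-- `x` is a `p'`-element -/
def PP (p : ℕ) (x : G) : Prop := ∃ n : ℕ, n.Coprime p ∧ x ^ n = 1

/-- `x` is a `p`-element -/
def PE (p : ℕ) (x : G) : Prop := ∃ k : ℕ, x ^ p ^ k = 1

/-- the `p'`-elements of `H` form a subgroup -/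
def NPC (p : ℕ) (H : Subgroup G) : Prop :=
  ∀ x ∈ H, ∀ y ∈ H, PP p x → PP p y → PP p (x * y)

theorem PP.one : PP p (1 : G) := ⟨1, by simp, by simp⟩

theorem PP.inv {x : G} (h : PP p x) : PP p x⁻¹ := by
  obtain ⟨n, h1, h2⟩ := h
  exact ⟨n, h1, by rw [inv_pow, h2, inv_one]⟩

theorem PP.map {x : G} (h : PP p x) (f : G →* G') : PP p (f x) := by
  obtain ⟨n, h1, h2⟩ := h
  exact ⟨n, h1, by rw [← map_pow, h2, map_one]⟩

theorem PP.conj {x : G} (h : PP p x) (g : G) : PP p (g * x * g⁻¹) :=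
  h.map (MulAut.conj g).toMonoidHom

theorem PP.of_inj {x : G} (f : G →* G') (hf : Function.Injective f) (h : PP p (f x)) : PP p x := by
  obtain ⟨n, h1, h2⟩ := h
  exact ⟨n, h1, hf (by rw [map_pow, h2, map_one])⟩

theorem PP.pow {x : G} (h : PP p x) (m : ℕ) : PP p (x ^ m) := by
  obtain ⟨n, h1, h2⟩ := h
  exact ⟨n, h1, by rw [← pow_mul, mul_comm, pow_mul, h2, one_pow]⟩

theorem PP.of_pow {x : G} {m : ℕ} (hm : m.Coprime p) (h : PP p (x ^ m)) : PP p x := by
  obtain ⟨n, h1, h2⟩ := h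
  exact ⟨m * n, Nat.Coprime.mul_left hm h1, by rw [pow_mul, h2]⟩

theorem PP.mul_of_commute {x y : G} (hx : PP p x) (hy : PP p y) (h : Commute x y) :
    PP p (x * y) := by
  obtain ⟨n, h1, h2⟩ := hx
  obtain ⟨m, h3, h4⟩ := hy
  refine ⟨n * m, Nat.Coprime.mul_left h1 h3, ?_⟩
  rw [h.mul_pow, pow_mul, h2, one_pow, mul_comm n, pow_mul, h4, one_pow, one_mul]

theorem PP.eq_one {x : G} (h : PP p x) (h' : PE p x) : x = 1 := by
  obtain ⟨n, h1, h2⟩ := h
  obtain ⟨k, h3⟩ := h'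
  have := pow_gcd_eq_one.mpr ⟨h2, h3⟩
  rwa [Nat.Coprime.gcd_eq_one (Nat.Coprime.pow_right k h1), pow_one] at this

theorem PE.map {x : G} (h : PE p x) (f : G →* G') : PE p (f x) := by
  obtain ⟨n, h2⟩ := h
  exact ⟨n, by rw [← map_pow, h2, map_one]⟩

theorem pe_of_mem {H : Subgroup G} (hH : IsPGroup p H) {x : G} (hx : x ∈ H) : PE p x := by
  obtain ⟨k, hk⟩ := hH ⟨x, hx⟩
  exact ⟨k, by simpa using congrArg Subtype.val hk⟩

theorem isPGroup_of_pe {H : Subgroup G} (h : ∀ x ∈ H, PE p x) : IsPGroup p H := by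
  intro x
  obtain ⟨k, hk⟩ := h x x.2
  exact ⟨k, Subtype.ext (by simpa using hk)⟩

theorem PE.zpowers {x : G} (h : PE p x) : IsPGroup p (zpowers x) := by
  apply isPGroup_of_pe
  rintro _ ⟨m, rfl⟩
  obtain ⟨k, hk⟩ := h
  exact ⟨k, by simp only; rw [← zpow_natCast, ← zpow_mul, mul_comm, zpow_mul, zpow_natCast, hk,
    one_zpow]⟩

theorem pp_of_card {H : Subgroup G} (hH : (Nat.card H).Coprime p) {x : G} (hx : x ∈ H) :
    PP p x :=
  ⟨Nat.card H, hH, congrArg Subtype.val (pow_card_eq_one' (x := (⟨x, hx⟩ : H)))⟩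

theorem pp_of_pe {q : ℕ} (hq : q.Coprime p) {x : G} (h : PE q x) : PP p x := by
  obtain ⟨k, hk⟩ := h
  exact ⟨q ^ k, Nat.Coprime.pow_left k hq, hk⟩

variable [hp : Fact p.Prime]

/-- `p`-part and `p'`-part -/
theorem exists_decomp [Finite G] (x : G) :
    ∃ a ∈ zpowers x, ∃ b ∈ zpowers x, PE p a ∧ PP p b ∧ x = a * b := by
  have h0 : orderOf x ≠ 0 := (orderOf_pos x).ne'
  obtain ⟨k, m, hm, he⟩ := Nat.exists_eq_pow_mul_and_not_dvd h0 p hp.out.ne_one
  have hc : m.Coprime p := ((Nat.Prime.coprime_iff_not_dvd hp.out).mpr hm).symm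
  have hc' : IsCoprime (m : ℤ) ((p ^ k : ℕ) : ℤ) :=
    Nat.isCoprime_iff_coprime.mpr (Nat.Coprime.pow_right k hc)
  obtain ⟨u, v, huv⟩ := hc'
  have h1 : x ^ (p ^ k * m) = 1 := by rw [← he, pow_orderOf_eq_one]
  refine ⟨x ^ (u * m), zpow_mem_zpowers _ _, x ^ (v * (p ^ k : ℕ)), zpow_mem_zpowers _ _,
    ⟨k, ?_⟩, ⟨m, hc, ?_⟩, ?_⟩
  · rw [← zpow_natCast, ← zpow_mul, show u * m * ((p ^ k : ℕ) : ℤ) = ((p ^ k * m : ℕ) : ℤ) * u by
      push_cast; ring, zpow_mul, zpow_natCast, h1, one_zpow]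
  · rw [← zpow_natCast, ← zpow_mul, show v * ((p ^ k : ℕ) : ℤ) * m = ((p ^ k * m : ℕ) : ℤ) * v by
      push_cast; ring, zpow_mul, zpow_natCast, h1, one_zpow]
  · rw [← zpow_add, huv, zpow_one]

theorem PP.lift [Finite G] (f : G →* G') {x : G} (h : PP p (f x)) :
    ∃ y ∈ zpowers x, PP p y ∧ f y = f x := by
  obtain ⟨a, ha, b, hb, h1, h2, h3⟩ := exists_decomp (p := p) x
  refine ⟨b, hb, h2, ?_⟩
  have : f a = 1 := by
    obtain ⟨m, rfl⟩ := ha
    refine PP.eq_one ?_ (h1.map f)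
    obtain ⟨n, h4, h5⟩ := h
    refine ⟨n, h4, ?_⟩
    simp only [map_zpow]
    rw [← zpow_natCast, ← zpow_mul, mul_comm, zpow_mul, zpow_natCast, h5, one_zpow]
  conv_rhs => rw [h3, map_mul, this, one_mul]

omit hp in
theorem NPC.mono {H K : Subgroup G} (h : NPC p K) (hle : H ≤ K) : NPC p H :=
  fun x hx y hy => h x (hle hx) y (hle hy)

theorem NPC.map [Finite G] {H : Subgroup G} (h : NPC p H) (f : G →* G') : NPC p (H.map f) := by
  rintro _ ⟨x, hx, rfl⟩ _ ⟨y, hy, rfl⟩ h1 h2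
  obtain ⟨a, ha, h3, h4⟩ := h1.lift f
  obtain ⟨b, hb, h5, h6⟩ := h2.lift f
  rw [← h4, ← h6, ← map_mul]
  exact (h a (zpowers_le.mpr hx ha) b (zpowers_le.mpr hy hb) h3 h5).map f

omit hp in
theorem NPC.comap {H : Subgroup G'} (h : NPC p H) (f : G →* G') (hf : Function.Injective f) :
    NPC p (H.comap f) := by
  intro x hx y hy h1 h2
  apply PP.of_inj f hf
  rw [map_mul]
  exact h _ hx _ hy (h1.map f) (h2.map f)

theorem npc_top_iff [Finite G] {H : Subgroup G} : NPC p (⊤ : Subgroup H) ↔ NPC p H := by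
  constructor
  · intro h
    have := h.map H.subtype
    rwa [← MonoidHom.range_eq_map, range_subtype] at this
  · intro h
    exact (h.comap H.subtype H.subtype_injective).mono (fun x _ => x.2)

omit hp in
theorem npc_of_isPGroup {H : Subgroup G} (h : IsPGroup p H) : NPC p H := by
  intro x hx y hy h1 h2
  rw [h1.eq_one (pe_of_mem h hx), one_mul]
  exact h2

/-- the normal `p`-complement -/
def NPC.K {H : Subgroup G} (h : NPC p H) : Subgroup G where
  carrier := {x | x ∈ H ∧ PP p x}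
  one_mem' := ⟨H.one_mem, PP.one⟩
  mul_mem' := fun ha hb => ⟨H.mul_mem ha.1 hb.1, h _ ha.1 _ hb.1 ha.2 hb.2⟩
  inv_mem' := fun ha => ⟨H.inv_mem ha.1, ha.2.inv⟩

omit hp in
theorem NPC.mem_K {H : Subgroup G} (h : NPC p H) {x : G} : x ∈ h.K ↔ x ∈ H ∧ PP p x := Iff.rfl

omit hp in
theorem NPC.K_normal {H : Subgroup G} [hn : H.Normal] (h : NPC p H) : h.K.Normal :=
  ⟨fun _ hx g => ⟨hn.conj_mem _ hx.1 g, hx.2.conj g⟩⟩

theorem coprime_card_of_pp [Finite G] {H : Subgroup G} (h : ∀ x ∈ H, PP p x) :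
    (Nat.card H).Coprime p := by
  rw [Nat.coprime_comm, Nat.Prime.coprime_iff_not_dvd hp.out]
  intro hd
  obtain ⟨x, hx⟩ := exists_prime_orderOf_dvd_card' (G := H) p hd
  have h1 : (x : G) = 1 := (h x x.2).eq_one ⟨1, by
    rw [pow_one, ← hx]; exact congrArg Subtype.val (pow_orderOf_eq_one x)⟩
  have : x = 1 := Subtype.ext h1
  rw [this, orderOf_one] at hx
  exact hp.out.ne_one hx.symm

theorem isPGroup_of_pp [Finite G] {H : Subgroup G} (h : ∀ x ∈ H, PP p x → x = 1) :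
    IsPGroup p H := by
  apply isPGroup_of_pe
  intro x hx
  obtain ⟨a, ha, b, hb, h1, h2, h3⟩ := exists_decomp (p := p) x
  rw [h3, h b (zpowers_le.mpr hx hb) h2, mul_one]
  exact h1

/-- factorisation `G = P K` -/
theorem NPC.fac_top [Finite G] (h : NPC p (⊤ : Subgroup G)) (P : Sylow p G) (g : G) :
    ∃ s ∈ (P : Subgroup G), ∃ k, PP p k ∧ g = s * k := by
  have := h.K_normal
  have h1 : IsPGroup p (⊤ : Subgroup (G ⧸ h.K)) := by
    apply isPGroup_of_pp
    intro x _ hx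
    obtain ⟨x, rfl⟩ := QuotientGroup.mk'_surjective _ x
    obtain ⟨y, -, h2, h3⟩ := hx.lift
    rw [← h3]
    exact (QuotientGroup.eq_one_iff _).mpr ⟨trivial, h2⟩
  have h2 := (P.mapSurjective (QuotientGroup.mk'_surjective h.K)).3 h1 le_top
  have h3 : QuotientGroup.mk' h.K g ∈ (P : Subgroup G).map (QuotientGroup.mk' h.K) := by
    have : QuotientGroup.mk' h.K g ∈ (⊤ : Subgroup (G ⧸ h.K)) := trivial
    rw [h2] at this
    exact this
  obtain ⟨s, hs, h4⟩ := h3
  refine ⟨s, hs, s⁻¹ * g, (QuotientGroup.eq.mp h4).2, by group⟩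

/-- `S` is a Sylow `p`-subgroup of `N` -/
def SylIn (p : ℕ) (S N : Subgroup G) : Prop := ∃ T : Sylow p N, (T : Subgroup N).map N.subtype = S

omit hp in
theorem SylIn.le {S N : Subgroup G} (h : SylIn p S N) : S ≤ N := by
  obtain ⟨T, rfl⟩ := h
  exact map_subtype_le _

omit hp in
theorem SylIn.pg {S N : Subgroup G} (h : SylIn p S N) : IsPGroup p S := by
  obtain ⟨T, rfl⟩ := h
  exact T.2.map _

omit hp in
theorem exists_sylIn {A N : Subgroup G} (hA : IsPGroup p A) (h : A ≤ N) :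
    ∃ S, SylIn p S N ∧ A ≤ S := by
  obtain ⟨T, hT⟩ := (hA.comap_subtype (K := N)).exists_le_sylow
  refine ⟨_, ⟨T, rfl⟩, fun a ha => ⟨⟨a, h ha⟩, hT ha, rfl⟩⟩

theorem SylIn.conj_le [Finite G] {S N B : Subgroup G} (h : SylIn p S N) (hB : IsPGroup p B)
    (hle : B ≤ N) : ∃ n ∈ N, ∀ b ∈ B, n * b * n⁻¹ ∈ S := by
  obtain ⟨T, rfl⟩ := h
  obtain ⟨T', hT⟩ := (hB.comap_subtype (K := N)).exists_le_sylow
  obtain ⟨n, hn⟩ := MulAction.exists_smul_eq N T' T
  refine ⟨n, n.2, fun b hb => ⟨n * ⟨b, hle hb⟩ * n⁻¹, ?_, rfl⟩⟩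
  rw [← hn]
  have : (⟨b, hle hb⟩ : N) ∈ (T' : Subgroup N) := hT hb
  exact Subgroup.smul_mem_pointwise_smul _ (MulAut.conj n) _ this

theorem SylIn.fac [Finite G] {S N : Subgroup G} (h : SylIn p S N) (hN : NPC p N) {g : G}
    (hg : g ∈ N) : ∃ s ∈ S, ∃ k ∈ N, PP p k ∧ g = s * k := by
  obtain ⟨T, rfl⟩ := h
  obtain ⟨s, hs, k, hk, h1⟩ := (npc_top_iff.mpr hN).fac_top T ⟨g, hg⟩
  exact ⟨s, ⟨s, hs, rfl⟩, k, k.2, hk.map N.subtype, congrArg Subtype.val h1⟩

theorem sylIn_of_index [Finite G] {S N : Subgroup G} (hS : IsPGroup p S) (hle : S ≤ N)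
    (hi : ¬ p ∣ S.relIndex N) : SylIn p S N :=
  ⟨(hS.comap_subtype (K := N)).toSylow hi, map_subgroupOf_eq_of_le hle⟩

omit hp in
theorem sylow_sylIn (P : Sylow p G) {N : Subgroup G} (h : (P : Subgroup G) ≤ N) :
    SylIn p P N := ⟨P.subtype h, map_subgroupOf_eq_of_le h⟩

theorem SylIn.card_le [Finite G] {S N B : Subgroup G} (h : SylIn p S N) (hB : IsPGroup p B)
    (hle : B ≤ N) : Nat.card B ≤ Nat.card S := by
  obtain ⟨n, -, hn⟩ := h.conj_le hB hle
  exact Nat.card_le_card_of_injective (fun b : B => (⟨n * b * n⁻¹, hn b b.2⟩ : S))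
    (fun a b hab => Subtype.ext (by simpa using congrArg Subtype.val hab))

/-- normaliser condition inside a `p`-subgroup -/
theorem exists_mem_normalizer [Finite G] {D P : Subgroup G} (hP : IsPGroup p P) (hlt : D < P) :
    ∃ x ∈ P, x ∉ D ∧ x ∈ normalizer (D : Set G) := by
  have := hP.isNilpotent
  have h1 : D.subgroupOf P < ⊤ := by
    rw [lt_top_iff_ne_top, Ne, subgroupOf_eq_top]
    exact hlt.not_ge
  obtain ⟨x, hx, hx'⟩ := SetLike.exists_of_lt
    (Group.normalizerCondition_of_isNilpotent (G := P) _ h1)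
  refine ⟨x, x.2, hx', ?_⟩
  rw [mem_normalizer_iff] at hx ⊢
  intro h
  constructor
  · intro hh
    exact (hx ⟨h, hlt.le hh⟩).mp hh
  · intro hh
    have : h ∈ P := by
      have := P.mul_mem (P.mul_mem (P.inv_mem x.2) (hlt.le hh)) x.2
      simpa [mul_assoc] using this
    exact (hx ⟨h, this⟩).mpr hh

omit hp in
/-- a `p'`-element of an `NPC` group centralises a normalised `p`-subgroup -/
theorem NPC.commute {N X : Subgroup G} (hN : NPC p N) (hX : IsPGroup p X) (hXN : X ≤ N)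
    {k : G} (hk : k ∈ N) (hk' : k ∈ normalizer (X : Set G)) (h : PP p k) {x : G} (hx : x ∈ X) :
    Commute k x := by
  have h1 : k * x * k⁻¹ * x⁻¹ ∈ X := X.mul_mem ((mem_normalizer_iff.mp hk' x).mp hx) (X.inv_mem hx)
  have h2 : PP p (k * x * k⁻¹ * x⁻¹) := by
    have := hN k hk (x * k⁻¹ * x⁻¹)
      (N.mul_mem (N.mul_mem (hXN hx) (N.inv_mem hk)) (N.inv_mem (hXN hx))) h (h.inv.conj x)
    simpa [mul_assoc] using this
  exact commutatorElement_eq_one_iff_commute.mp (h2.eq_one (pe_of_mem hX h1))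

/-- central extensions -/
theorem npc_of_central [Finite G] (f : G →* G') {C : Subgroup G}
    (hC : ∀ c ∈ C, ∀ u ∈ f.ker, Commute c u) (h : NPC p (⊤ : Subgroup G')) : NPC p C := by
  let L : Subgroup G := C ⊓ h.K.comap f
  have hi : (center L).index.Coprime p := by
    have h1 : (f.domRestrict L).ker ≤ center L := by
      intro x hx
      rw [mem_center_iff]
      intro y
      exact Subtype.ext (hC y y.2.1 x hx)
    refine Nat.Coprime.coprime_dvd_left (index_dvd_of_le h1) ?_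
    rw [index_ker]
    have : Finite (f.domRestrict L).range := Finite.of_surjective _ (f.domRestrict L).rangeRestrict_surjective
    rw [Nat.coprime_comm, Nat.Prime.coprime_iff_not_dvd hp.out]
    intro hd
    obtain ⟨⟨_, x, rfl⟩, hx⟩ := exists_prime_orderOf_dvd_card' (G := (f.domRestrict L).range) p hd
    have h2 : f x = 1 := x.2.2.2.eq_one ⟨1, by
      rw [pow_one, ← hx]
      exact congrArg Subtype.val (pow_orderOf_eq_one (⟨_, x, rfl⟩ : (f.domRestrict L).range))⟩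
    have : (⟨_, x, rfl⟩ : (f.domRestrict L).range) = 1 := Subtype.ext h2
    rw [this, orderOf_one] at hx
    exact hp.out.ne_one hx.symm
  intro x hx y hy h1 h2
  let x' : L := ⟨x, hx, trivial, h1.map f⟩
  let y' : L := ⟨y, hy, trivial, h2.map f⟩
  have h3 := (MonoidHom.transferCenterPow L).map_mul x' y'
  have h4 : (x * y) ^ (center L).index = x ^ (center L).index * y ^ (center L).index := by
    exact congrArg (fun z : center L => ((z : L) : G)) h3
  apply PP.of_pow hi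
  rw [h4]
  refine (h1.pow _).mul_of_commute (h2.pow _) ?_
  have := (mem_center_iff.mp ((center L).pow_index_mem y') (x' ^ (center L).index))
  exact congrArg Subtype.val this

theorem npc_of_nilpotent [Finite G] [Group.IsNilpotent G] : NPC p (⊤ : Subgroup G) := by
  revert ‹Finite G›
  refine Group.nilpotent_center_quotient_ind
    (P := fun G _ _ => ∀ [Finite G], NPC p (⊤ : Subgroup G)) G ?_ ?_
  · intro G _ _ _ x _ y _ _ _
    rw [Subsingleton.elim (x * y) 1]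
    exact PP.one
  · intro G _ _ ih _
    refine npc_of_central (QuotientGroup.mk' (center G)) ?_ ih
    intro c _ u hu
    rw [QuotientGroup.ker_mk'] at hu
    exact mem_center_iff.mp hu c

end Cfsg.Agent.Thom
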